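import Groth.Agent.SiteBase.FreeMod
import Groth.Agent.QCohLib.Exact
import Mathlib.Topology.Sheaves.Skyscraper
import Mathlib.AlgebraicGeometry.Modules.Sheaf

/-! Sections over compact opens of filtered colimits of modules on a scheme. -/

set_option autoImplicit false
set_option backward.isDefEq.respectTransparency false
set_option linter.style.haveILetI false

universe u

open CategoryTheory CategoryTheory.Limits AlgebraicGeometry Opposite TopologicalSpace

namespace ZClosLib

variable {X : Scheme.{u}}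

/-- The stalk functor on modules. -/
noncomputable abbrev stalkF (x : X) : X.Modules ⥤ AddCommGrpCat.{u} :=
  Groth.Agent.QCohLib.toAbF X ⋙ TopCat.Sheaf.forget _ (X : TopCat) ⋙
    TopCat.Presheaf.stalkFunctor AddCommGrpCat.{u} x

instance preservesColimitsOfShape_stalkF (x : X) (J : Type u) [SmallCategory J] :
    PreservesColimitsOfShape J (stalkF x) := by
  classical
  haveI : PreservesColimitsOfShape J (Groth.Agent.QCohLib.toAbF X) :=
    Groth.Agent.SiteBase.preservesColimitsOfShape_toSheaf X.ringCatSheaf J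
  haveI : PreservesColimitsOfShape J (TopCat.Sheaf.forget AddCommGrpCat.{u} (X : TopCat) ⋙
      TopCat.Presheaf.stalkFunctor AddCommGrpCat.{u} x) :=
    (stalkSkyscraperSheafAdjunction (C := AddCommGrpCat.{u}) x).leftAdjoint_preservesColimits.1
  infer_instance

theorem stalkF_map {M N : X.Modules} (φ : M ⟶ N) (x : X) :
    (stalkF x).map φ = (TopCat.Presheaf.stalkFunctor AddCommGrpCat.{u} x).map φ.mapPresheaf := rfl

theorem app_res {M N : X.Modules} (φ : M ⟶ N) {V W : X.Opens} (h : V ≤ W) (s : Γ(M, W)) :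
    φ.app V (M.presheaf.map (homOfLE h).op s) = N.presheaf.map (homOfLE h).op (φ.app W s) :=
  Groth.Agent.QCohLib.app_res φ h s

theorem res_res (M : X.Modules) {U V W : X.Opens} (h : U ≤ V) (h' : V ≤ W) (s : Γ(M, W)) :
    M.presheaf.map (homOfLE h).op (M.presheaf.map (homOfLE h').op s) =
      M.presheaf.map (homOfLE (h.trans h')).op s := by
  rw [← ConcreteCategory.comp_apply, ← Functor.map_comp]; rfl

theorem res_self (M : X.Modules) {U : X.Opens} (h : U ≤ U) (s : Γ(M, U)) :
    M.presheaf.map (homOfLE h).op s = s := by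
  rw [show (homOfLE h).op = 𝟙 (op U) from rfl, M.presheaf.map_id]; rfl

theorem map_germ {M N : X.Modules} (φ : M ⟶ N) {U : X.Opens} (x : X) (hx : x ∈ U) (s : Γ(M, U)) :
    (stalkF x).map φ (M.presheaf.germ U x hx s) = N.presheaf.germ U x hx (φ.app U s) :=
  TopCat.Presheaf.stalkFunctor_map_germ_apply U x hx φ.mapPresheaf s

theorem germ_res' (M : X.Modules) {U V : X.Opens} (h : U ≤ V) (x : X) (hx : x ∈ U) (s : Γ(M, V)) :
    M.presheaf.germ U x hx (M.presheaf.map (homOfLE h).op s) = M.presheaf.germ V x (h hx) s :=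
  TopCat.Presheaf.germ_res_apply M.presheaf (homOfLE h) x hx s

/-- Two sections with the same germs at all points agree. -/
theorem section_ext (M : X.Modules) (U : X.Opens) (s t : Γ(M, U))
    (h : ∀ x (hx : x ∈ U), M.presheaf.germ U x hx s = M.presheaf.germ U x hx t) : s = t :=
  TopCat.Presheaf.section_ext ((Groth.Agent.QCohLib.toAbF X).obj M) U s t h

variable {J : Type u} [SemilatticeSup J] [Nonempty J] (D : J ⥤ X.Modules)

theorem exists_stalk_rep (x : X) (e : (stalkF x).obj (colimit D)) :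
    ∃ (j : J) (a : (stalkF x).obj (D.obj j)), (stalkF x).map (colimit.ι D j) a = e :=
  Concrete.isColimit_exists_rep (D ⋙ stalkF x)
    (isColimitOfPreserves (stalkF x) (colimit.isColimit D)) e

theorem exists_stalk_zero (x : X) (j : J) (a : (stalkF x).obj (D.obj j))
    (ha : (stalkF x).map (colimit.ι D j) a = 0) :
    ∃ (k : J) (h : j ≤ k), (stalkF x).map (D.map (homOfLE h)) a = 0 := by
  obtain ⟨k, f, g, hfg⟩ := (Concrete.isColimit_rep_eq_iff_exists (D ⋙ stalkF x)
    (isColimitOfPreserves (stalkF x) (colimit.isColimit D)) a (0 : (stalkF x).obj (D.obj j))).1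
      (ha.trans (map_zero _).symm)
  exact ⟨k, f.le, hfg.trans (map_zero _)⟩

theorem w_app {j k : J} (h : j ≤ k) (U : X.Opens) (s : Γ(D.obj j, U)) :
    (colimit.ι D k).app U ((D.map (homOfLE h)).app U s) = (colimit.ι D j).app U s := by
  rw [← colimit.w D (homOfLE h)]; rfl

omit [Nonempty J] in
theorem map_map_app {j k l : J} (h : j ≤ k) (h' : k ≤ l) (U : X.Opens) (s : Γ(D.obj j, U)) :
    (D.map (homOfLE h')).app U ((D.map (homOfLE h)).app U s) =
      (D.map (homOfLE (h.trans h'))).app U s := by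
  rw [show homOfLE (h.trans h') = homOfLE h ≫ homOfLE h' from rfl, D.map_comp]; rfl

/-- A section over a compact open dying in the colimit dies at a finite stage. -/
theorem exists_eq_zero {V : X.Opens} (hV : IsCompact (V : Set X)) (j : J) (s : Γ(D.obj j, V))
    (hs : (colimit.ι D j).app V s = 0) :
    ∃ (k : J) (h : j ≤ k), (D.map (homOfLE h)).app V s = 0 := by
  classical
  have key : ∀ x : V, ∃ (k : J) (h : j ≤ k) (W : X.Opens) (hW : W ≤ V), x.1 ∈ W ∧
      (D.obj k).presheaf.map (homOfLE hW).op ((D.map (homOfLE h)).app V s) = 0 := by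
    intro x
    obtain ⟨k, h, hk⟩ := exists_stalk_zero D x.1 j ((D.obj j).presheaf.germ V x.1 x.2 s)
      (by rw [map_germ, hs, map_zero])
    rw [map_germ] at hk
    obtain ⟨W, hxW, iU, iV, he⟩ := TopCat.Presheaf.germ_eq _ x.1 x.2 x.2
      ((D.map (homOfLE h)).app V s) 0 (hk.trans (map_zero _).symm)
    exact ⟨k, h, W, iU.le, hxW, he.trans (map_zero _)⟩
  choose k hjk W hWV hxW hW using key
  obtain ⟨t, ht⟩ := hV.elim_finite_subcover (fun x : V => (W x : Set X)) (fun x => (W x).2)
    (fun x hx => Set.mem_iUnion.2 ⟨⟨x, hx⟩, hxW _⟩)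
  obtain ⟨K, hK⟩ := Finset.exists_le ((insert j (t.image k)) : Finset J)
  refine ⟨K, hK j (Finset.mem_insert_self _ _), section_ext _ _ _ _ fun x hx => ?_⟩
  obtain ⟨y, hy, hxy⟩ := Set.mem_iUnion₂.1 (ht hx)
  have hkK : k y ≤ K := hK _ (Finset.mem_insert_of_mem (Finset.mem_image_of_mem k hy))
  rw [map_zero, ← germ_res' _ (hWV y) x hxy, ← map_map_app D (hjk y) hkK, ← app_res, hW y,
    map_zero, map_zero]

/-- Every section of the colimit over a compact open comes from a finite stage. -/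
theorem exists_ι_eq [QuasiSeparatedSpace X] {V : X.Opens} (hV : IsCompact (V : Set X))
    (h : Γ(colimit D, V)) : ∃ (j : J) (s : Γ(D.obj j, V)), (colimit.ι D j).app V s = h := by
  classical
  have key : ∀ x : V, ∃ (j : J) (W : X.Opens) (hW : W ≤ V) (s : Γ(D.obj j, W)), x.1 ∈ W ∧
      IsCompact (W : Set X) ∧
      (colimit.ι D j).app W s = (colimit D).presheaf.map (homOfLE hW).op h := by
    intro x
    obtain ⟨j, a, ha⟩ := exists_stalk_rep D x.1 ((colimit D).presheaf.germ V x.1 x.2 h)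
    obtain ⟨U, hxU, s, rfl⟩ := TopCat.Presheaf.exists_germ_eq (D.obj j).presheaf a
    rw [map_germ] at ha
    obtain ⟨W, hxW, iU, iV, he⟩ := TopCat.Presheaf.germ_eq _ x.1 hxU x.2
      ((colimit.ι D j).app U s) h ha
    obtain ⟨_, ⟨W', hW', rfl⟩, hxW', hW'W⟩ :=
      X.isBasis_affineOpens.exists_subset_of_mem_open hxW W.2
    have hleW : (W' : X.Opens) ≤ W := hW'W
    have hleU : (W' : X.Opens) ≤ U := hleW.trans iU.le
    refine ⟨j, W', hleW.trans iV.le,
      (D.obj j).presheaf.map (homOfLE hleU).op s, hxW', IsAffineOpen.isCompact hW', ?_⟩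
    have he' : (colimit D).presheaf.map (homOfLE iU.le).op ((colimit.ι D j).app U s) =
      (colimit D).presheaf.map (homOfLE iV.le).op h := he
    have e1 := app_res (colimit.ι D j) hleU s
    have e2 := congrArg ((colimit D).presheaf.map (homOfLE hleW).op) he'
    rw [res_res, res_res] at e2
    exact e1.trans e2
  choose j W hWV s hxW hWc hs using key
  obtain ⟨t, ht⟩ := hV.elim_finite_subcover (fun x : V => (W x : Set X)) (fun x => (W x).2)
    (fun x hx => Set.mem_iUnion.2 ⟨⟨x, hx⟩, hxW _⟩)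
  obtain ⟨K₀, hK₀⟩ := Finset.exists_le (t.image j)
  have hj : ∀ y ∈ t, j y ≤ K₀ := fun y hy => hK₀ _ (Finset.mem_image_of_mem j hy)
  let W' : t → X.Opens := fun y => W y.1
  let s₀ : ∀ y : t, Γ(D.obj K₀, W' y) := fun y =>
    (D.map (homOfLE (hj y.1 y.2))).app _ (s y.1)
  have hs₀ : ∀ y : t, (colimit.ι D K₀).app _ (s₀ y) =
      (colimit D).presheaf.map (homOfLE (hWV y.1)).op h := fun y => (w_app D _ _ _).trans (hs y.1)
  have hdiff : ∀ p : t × t, ∃ (k : J) (hk : K₀ ≤ k),
      (D.map (homOfLE hk)).app _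
        ((D.obj K₀).presheaf.map (homOfLE (inf_le_left : W' p.1 ⊓ W' p.2 ≤ W' p.1)).op (s₀ p.1) -
          (D.obj K₀).presheaf.map (homOfLE (inf_le_right : W' p.1 ⊓ W' p.2 ≤ W' p.2)).op (s₀ p.2)) = 0 := by
    intro p
    refine exists_eq_zero D (QuasiSeparatedSpace.inter_isCompact _ _
      (W' p.1).2 (hWc _) (W' p.2).2 (hWc _)) K₀ _ ?_
    rw [map_sub, app_res, app_res, hs₀, hs₀, res_res, res_res, sub_self]
  choose k hk hk0 using hdiff
  obtain ⟨K, hK⟩ := Finset.exists_le (insert K₀ (Finset.univ.image k))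
  have hK₀K : K₀ ≤ K := hK _ (Finset.mem_insert_self _ _)
  let s₁ : ∀ y : t, Γ(D.obj K, W' y) := fun y => (D.map (homOfLE hK₀K)).app _ (s₀ y)
  have hcompat : TopCat.Presheaf.IsCompatible ((Groth.Agent.QCohLib.toAbF X).obj (D.obj K)).1 W' s₁ := by
    intro a b
    change (D.obj K).presheaf.map (homOfLE (inf_le_left : W' a ⊓ W' b ≤ W' a)).op (s₁ a) =
      (D.obj K).presheaf.map (homOfLE (inf_le_right : W' a ⊓ W' b ≤ W' b)).op (s₁ b)
    have hkK : k (a, b) ≤ K := hK _ (Finset.mem_insert_of_mem (Finset.mem_image_of_mem k (Finset.mem_univ _)))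
    have := congrArg ((D.map (homOfLE hkK)).app (W' a ⊓ W' b)) (hk0 (a, b))
    rw [map_zero, map_map_app, map_sub, app_res, app_res, sub_eq_zero] at this
    exact this
  have hVU : V ≤ iSup W' := fun x hx => by
    obtain ⟨y, hy, hxy⟩ := Set.mem_iUnion₂.1 (ht hx)
    exact Opens.mem_iSup.2 ⟨⟨y, hy⟩, hxy⟩
  have hUV : ∀ y : t, W' y ≤ V := fun y => hWV y.1
  obtain ⟨S, hS, -⟩ := TopCat.Sheaf.existsUnique_gluing'
    ((Groth.Agent.QCohLib.toAbF X).obj (D.obj K)) W' V (fun y => homOfLE (hUV y)) hVU s₁ hcompat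
  refine ⟨K, S, section_ext _ _ _ _ fun x hx => ?_⟩
  obtain ⟨y, hxy⟩ := Opens.mem_iSup.1 (hVU hx)
  have hSy : (D.obj K).presheaf.map (homOfLE (hUV y)).op S = s₁ y := hS y
  rw [← germ_res' _ (hUV y) x hxy, ← app_res, hSy, w_app, hs₀, germ_res']

end ZClosLib
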