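import Groth.Prelude.Def_ZClos
import Groth.Agent.ZClosLib.Colim
import Mathlib.AlgebraicGeometry.Noetherian

/-! Sections of the Z-closure. -/

set_option autoImplicit false
set_option backward.isDefEq.respectTransparency false
set_option linter.style.haveILetI false

universe u

open CategoryTheory CategoryTheory.Limits AlgebraicGeometry Opposite TopologicalSpace

namespace ZClosLib

variable {X : Scheme.{u}}

theorem res_bijective (M : X.Modules) {V W : X.Opens} (h : V ≤ W) (h' : W ≤ V) :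
    Function.Bijective (M.presheaf.map (homOfLE h).op) :=
  Function.bijective_iff_has_inverse.mpr ⟨M.presheaf.map (homOfLE h').op,
    fun s => (res_res M h' h s).trans (res_self M _ s), fun s => (res_res M h h' s).trans (res_self M _ s)⟩

theorem injective_of_mono {M N : X.Modules} (φ : M ⟶ N) [Mono φ] (V : X.Opens) :
    Function.Injective (φ.app V) := by
  haveI : Mono ((Groth.Agent.QCohLib.toAbF X).map φ) := (Groth.Agent.QCohLib.toAbF X).map_mono φ
  exact Groth.Agent.CohBase.sections_injective ((Groth.Agent.QCohLib.toAbF X).map φ) V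

theorem hom_ext_app {M N : X.Modules} {φ ψ : M ⟶ N}
    (h : ∀ (V : X.Opens) (s : Γ(M, V)), φ.app V s = ψ.app V s) : φ = ψ := by
  ext V : 1
  exact ConcreteCategory.hom_ext _ _ (h V)

theorem mono_of_injective {M N : X.Modules} (φ : M ⟶ N)
    (h : ∀ V : X.Opens, Function.Injective (φ.app V)) : Mono φ :=
  ⟨fun _ _ e => hom_ext_app fun V s => h V (congr($(e).app V s))⟩

theorem exists_affine_le (U : X.Opens) {x : X} (hx : x ∈ U) :
    ∃ W : X.Opens, IsAffineOpen W ∧ x ∈ W ∧ W ≤ U := by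
  obtain ⟨_, ⟨W, hW, rfl⟩, hxW, hWU⟩ := X.isBasis_affineOpens.exists_subset_of_mem_open hx U.2
  exact ⟨W, hW, hxW, hWU⟩

/-- Injectivity on affine opens implies injectivity on all opens. -/
theorem injective_of_affine {M N : X.Modules} (φ : M ⟶ N)
    (h : ∀ V : X.Opens, IsAffineOpen V → Function.Injective (φ.app V)) (V : X.Opens) :
    Function.Injective (φ.app V) := by
  intro s t hst
  refine section_ext M V s t fun x hx => ?_
  obtain ⟨W, hW, hxW, hWV⟩ := exists_affine_le V hx
  rw [← germ_res' M hWV x hxW s, ← germ_res' M hWV x hxW t]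
  congr 1
  apply h W hW
  rw [app_res, app_res, hst]

theorem stalk_injective {M N : X.Modules} (φ : M ⟶ N) (x : X)
    (h : ∀ V : X.Opens, IsAffineOpen V → Function.Injective (φ.app V)) :
    Function.Injective ((stalkF x).map φ) := by
  rw [injective_iff_map_eq_zero]
  intro a ha
  obtain ⟨U, hxU, s, rfl⟩ := TopCat.Presheaf.exists_germ_eq M.presheaf a
  rw [map_germ] at ha
  obtain ⟨W, hxW, iW, iW', he⟩ :=
    TopCat.Presheaf.germ_eq _ x hxU hxU (φ.app U s) 0 (ha.trans (map_zero _).symm)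
  have he' : N.presheaf.map (homOfLE iW.le).op (φ.app U s) = 0 := he.trans (map_zero _)
  have : M.presheaf.map (homOfLE iW.le).op s = 0 := injective_of_affine φ h W (by
    rw [app_res, he', map_zero])
  rw [← germ_res' M iW.le x hxW s, this, map_zero]

theorem stalk_surjective {M N : X.Modules} (φ : M ⟶ N) (x : X)
    (h : ∀ V : X.Opens, IsAffineOpen V → x ∈ V → Function.Surjective (φ.app V)) :
    Function.Surjective ((stalkF x).map φ) := by
  intro a
  obtain ⟨U, hxU, s, rfl⟩ := TopCat.Presheaf.exists_germ_eq N.presheaf a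
  obtain ⟨W, hW, hxW, hWU⟩ := exists_affine_le U hxU
  obtain ⟨t, ht⟩ := h W hW hxW (N.presheaf.map (homOfLE hWU).op s)
  exact ⟨M.presheaf.germ W x hxW t, by rw [map_germ, ht, germ_res']⟩

theorem isIso_of_stalk {M N : X.Modules} (φ : M ⟶ N)
    (h : ∀ x, Function.Bijective ((stalkF x).map φ)) : IsIso φ := by
  haveI : ∀ x, IsIso ((TopCat.Presheaf.stalkFunctor AddCommGrpCat.{u} x).map
      ((Groth.Agent.QCohLib.toAbF X).map φ).hom) :=
    fun x => (ConcreteCategory.isIso_iff_bijective _).2 (h x)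
  haveI : IsIso ((Groth.Agent.QCohLib.toAbF X).map φ) :=
    TopCat.Presheaf.isIso_of_stalkFunctor_map_iso (F := (Groth.Agent.QCohLib.toAbF X).obj M)
      (G := (Groth.Agent.QCohLib.toAbF X).obj N) _
  haveI : (Groth.Agent.QCohLib.toAbF X).ReflectsIsomorphisms :=
    inferInstanceAs (SheafOfModules.toSheaf.{u} X.ringCatSheaf).ReflectsIsomorphisms
  exact isIso_of_reflects_iso φ (Groth.Agent.QCohLib.toAbF X)

theorem isIso_of_bijective_affine {M N : X.Modules} (φ : M ⟶ N)
    (h : ∀ V : X.Opens, IsAffineOpen V → Function.Bijective (φ.app V)) : IsIso φ :=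
  isIso_of_stalk φ fun x => ⟨stalk_injective φ x fun V hV => (h V hV).1,
    stalk_surjective φ x fun V hV _ => (h V hV).2⟩

theorem bijective_of_isIso {M N : X.Modules} (φ : M ⟶ N) [IsIso φ] (V : X.Opens) :
    Function.Bijective (φ.app V) :=
  ConcreteCategory.bijective_of_isIso (φ.app V)

/-- `U ∩ V`, in the form used by the direct images. -/
abbrev IV (U V : X.Opens) : X.Opens := U.ι ''ᵁ U.ι ⁻¹ᵁ V

theorem IV_eq (U V : X.Opens) : IV U V = U ⊓ V := ZClos.ι_image_preimage U V

theorem IV_le_right (U V : X.Opens) : IV U V ≤ V := U.ι.image_preimage_le V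

theorem IV_le_left (U V : X.Opens) : IV U V ≤ U := (IV_eq U V).le.trans inf_le_left

theorem IV_mono {U U' V V' : X.Opens} (h : U ≤ U') (h' : V ≤ V') : IV U V ≤ IV U' V' := by
  rw [IV_eq, IV_eq]; exact inf_le_inf h h'

theorem mem_IV {U V : X.Opens} {x : X} : x ∈ IV U V ↔ x ∈ U ∧ x ∈ V := by
  rw [IV_eq]; exact Iff.rfl

theorem isCompact_inf [IsLocallyNoetherian X] {V : X.Opens} (hV : IsCompact (V : Set X))
    (U : X.Opens) : IsCompact ((U ⊓ V : X.Opens) : Set X) := by
  have key : ∀ x : V, ∃ W : X.Opens, IsAffineOpen W ∧ x.1 ∈ W := fun x =>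
    let ⟨W, hW, hxW, _⟩ := exists_affine_le ⊤ (Set.mem_univ x.1 : x.1 ∈ (⊤ : X.Opens))
    ⟨W, hW, hxW⟩
  choose W hW hxW using key
  obtain ⟨t, ht⟩ := hV.elim_finite_subcover (fun x : V => (W x : Set X)) (fun x => (W x).2)
    (fun x hx => Set.mem_iUnion.2 ⟨⟨x, hx⟩, hxW _⟩)
  have hc : ∀ x : V, IsCompact ((W x : Set X) ∩ ((U ⊓ V : X.Opens) : Set X)) := fun x => by
    haveI : IsNoetherianRing Γ(X, W x) := IsLocallyNoetherian.component_noetherian ⟨W x, hW x⟩
    haveI : NoetherianSpace (W x) := noetherianSpace_of_isAffineOpen _ (hW x)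
    have h1 := (NoetherianSpace.isCompact
      (Subtype.val ⁻¹' ((U ⊓ V : X.Opens) : Set X) : Set (W x))).image continuous_subtype_val
    exact (Subtype.image_preimage_coe (W x : Set X) ((U ⊓ V : X.Opens) : Set X)) ▸ h1
  have : ((U ⊓ V : X.Opens) : Set X) = ⋃ x ∈ t, (W x : Set X) ∩ ((U ⊓ V : X.Opens) : Set X) := by
    refine subset_antisymm (fun y hy => ?_) (Set.iUnion₂_subset fun x _ => Set.inter_subset_right)
    obtain ⟨x, hx, hyx⟩ := Set.mem_iUnion₂.1 (ht hy.2)
    exact Set.mem_iUnion₂.2 ⟨x, hx, hyx, hy⟩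
  rw [this]
  exact t.isCompact_biUnion fun x _ => hc x

variable {Z : Set X} (F : X.Modules)

/-- The colimit injection on sections. -/
noncomputable def inc (Z : Set X) (T : ZClos.Cl Z) (V : X.Opens) :
    Γ(F, IV T.U V) →+ Γ((ZClos.H0 Z).obj F, V) :=
  ((colimit.ι ((ZClos.diagram Z).obj F) T).app V).hom

theorem inc_trans {T T' : ZClos.Cl Z} (h : T ≤ T') (V : X.Opens) (s : Γ(F, IV T.U V)) :
    inc F Z T' V (F.presheaf.map (homOfLE (IV_mono (ZClos.Cl.U_anti h) le_rfl)).op s) =
      inc F Z T V s := by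
  have e := w_app ((ZClos.diagram Z).obj F) h V s
  rw [show ((ZClos.diagram Z).obj F).map (homOfLE h) =
    ZClos.resPushMapApp (ZClos.Cl.U_anti h) F from rfl, ZClos.resPushMapApp_app] at e
  exact e

theorem inc_res (T : ZClos.Cl Z) {V V' : X.Opens} (h : V ≤ V') (s : Γ(F, IV T.U V')) :
    inc F Z T V (F.presheaf.map (homOfLE (IV_mono le_rfl h)).op s) =
      ((ZClos.H0 Z).obj F).presheaf.map (homOfLE h).op (inc F Z T V' s) :=
  app_res (colimit.ι ((ZClos.diagram Z).obj F) T) h s

theorem rho_eq_inc (T : ZClos.Cl Z) (V : X.Opens) (s : Γ(F, V)) :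
    (ZClos.rhoApp Z F).app V s =
      inc F Z T V (F.presheaf.map (homOfLE (IV_le_right T.U V)).op s) := by
  rw [ZClos.rhoApp_eq Z F T]; rfl

theorem exists_inc [IsLocallyNoetherian X] {V : X.Opens} (hV : IsCompact (V : Set X))
    (h : Γ((ZClos.H0 Z).obj F, V)) : ∃ (T : ZClos.Cl Z) (s : Γ(F, IV T.U V)), inc F Z T V s = h :=
  exists_ι_eq ((ZClos.diagram Z).obj F) hV h

theorem inc_eq_zero [IsLocallyNoetherian X] {V : X.Opens} (hV : IsCompact (V : Set X))
    (T : ZClos.Cl Z) (s : Γ(F, IV T.U V)) (hs : inc F Z T V s = 0) :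
    ∃ (T' : ZClos.Cl Z) (h : T ≤ T'),
      F.presheaf.map (homOfLE (IV_mono (ZClos.Cl.U_anti h) (le_refl V))).op s = 0 := by
  obtain ⟨T', h, e⟩ := exists_eq_zero ((ZClos.diagram Z).obj F) hV T s hs
  refine ⟨T', h, ?_⟩
  rw [show ((ZClos.diagram Z).obj F).map (homOfLE h) =
    ZClos.resPushMapApp (ZClos.Cl.U_anti h) F from rfl, ZClos.resPushMapApp_app] at e
  exact e

/-- `inc` only depends on the germs of the section away from `Z`-small sets. -/
theorem inc_eq_zero_of_res {T T' : ZClos.Cl Z} (V : X.Opens) (s : Γ(F, IV T.U V))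
    (h : F.presheaf.map (homOfLE (IV_mono (inf_le_left : T.U ⊓ T'.U ≤ T.U) (le_refl V))).op s = 0) :
    inc F Z T V s = 0 := by
  rw [← inc_trans F (le_sup_left : T ≤ T ⊔ T') V s]
  have hle : (T ⊔ T').U ≤ T.U ⊓ T'.U :=
    le_inf (ZClos.Cl.U_anti le_sup_left) (ZClos.Cl.U_anti le_sup_right)
  have e := congrArg (F.presheaf.map (homOfLE (IV_mono hle (le_refl V))).op) h
  rw [res_res, map_zero] at e
  rw [e, map_zero]

/-- `IV U V` against `V ⊓ U`. -/
theorem toDiagram_injective_iff (U V : X.Opens) :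
    Function.Injective (F.presheaf.map (homOfLE (IV_le_right U V)).op) ↔
      Function.Injective (F.presheaf.map (homOfLE (inf_le_left : V ⊓ U ≤ V)).op) := by
  have h1 : IV U V ≤ V ⊓ U := le_inf (IV_le_right U V) (IV_le_left U V)
  have h2 : V ⊓ U ≤ IV U V := by rw [IV_eq, inf_comm]
  have e : (F.presheaf.map (homOfLE (IV_le_right U V)).op : Γ(F, V) → Γ(F, IV U V)) =
      F.presheaf.map (homOfLE h1).op ∘ F.presheaf.map (homOfLE (inf_le_left : V ⊓ U ≤ V)).op :=
    funext fun s => (res_res F h1 inf_le_left s).symm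
  rw [e]
  exact (res_bijective F h1 h2).1.of_comp_iff _

theorem toDiagram_bijective_iff (U V : X.Opens) :
    Function.Bijective (F.presheaf.map (homOfLE (IV_le_right U V)).op) ↔
      Function.Bijective (F.presheaf.map (homOfLE (inf_le_left : V ⊓ U ≤ V)).op) := by
  have h1 : IV U V ≤ V ⊓ U := le_inf (IV_le_right U V) (IV_le_left U V)
  have h2 : V ⊓ U ≤ IV U V := by rw [IV_eq, inf_comm]
  have e : (F.presheaf.map (homOfLE (IV_le_right U V)).op : Γ(F, V) → Γ(F, IV U V)) =
      F.presheaf.map (homOfLE h1).op ∘ F.presheaf.map (homOfLE (inf_le_left : V ⊓ U ≤ V)).op :=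
    funext fun s => (res_res F h1 inf_le_left s).symm
  rw [e]
  exact Function.Bijective.of_comp_iff' (res_bijective F h1 h2) _

end ZClosLib
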