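import Groth.Agent.ZClosLib.Formal

/-! Z-purity and Z-closedness are local. -/

set_option autoImplicit false
set_option backward.isDefEq.respectTransparency false
set_option linter.style.haveILetI false

universe u

open CategoryTheory CategoryTheory.Limits AlgebraicGeometry Opposite TopologicalSpace

namespace ZClosLib

variable {X : Scheme.{u}} {Z : Set X} {F : X.Modules}

/-- Compare restriction maps of `F|U` and of `F`. -/
theorem restrict_res_iff (U : X.Opens) (T : ZClos.Cl Z) (T' : ZClos.Cl (U.ι.base ⁻¹' Z))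
    (h : ∀ y, y ∈ (T'.1 : Set U.toScheme) ↔ U.ι y ∈ (T.1 : Set X)) (W : U.toScheme.Opens) :
    (Function.Injective (((Scheme.Modules.restrictFunctor U.ι).obj F).presheaf.map
        (homOfLE (inf_le_left : W ⊓ T'.U ≤ W)).op) ↔
      Function.Injective (F.presheaf.map (homOfLE (inf_le_left : U.ι ''ᵁ W ⊓ T.U ≤ U.ι ''ᵁ W)).op)) ∧
    (Function.Bijective (((Scheme.Modules.restrictFunctor U.ι).obj F).presheaf.map
        (homOfLE (inf_le_left : W ⊓ T'.U ≤ W)).op) ↔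
      Function.Bijective (F.presheaf.map (homOfLE (inf_le_left : U.ι ''ᵁ W ⊓ T.U ≤ U.ι ''ᵁ W)).op)) := by
  have e1 : U.ι ''ᵁ (W ⊓ T'.U) ≤ U.ι ''ᵁ W ⊓ T.U := by
    rintro _ ⟨y, ⟨hy, hyT⟩, rfl⟩
    exact ⟨⟨y, hy, rfl⟩, fun hT => hyT ((h y).2 hT)⟩
  have e2 : U.ι ''ᵁ W ⊓ T.U ≤ U.ι ''ᵁ (W ⊓ T'.U) := by
    rintro _ ⟨⟨y, hy, rfl⟩, hyT⟩
    exact ⟨y, ⟨hy, fun hT => hyT ((h y).1 hT)⟩, rfl⟩
  have e : (((Scheme.Modules.restrictFunctor U.ι).obj F).presheaf.map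
        (homOfLE (inf_le_left : W ⊓ T'.U ≤ W)).op : Γ(F, U.ι ''ᵁ W) → Γ(F, U.ι ''ᵁ (W ⊓ T'.U))) =
      F.presheaf.map (homOfLE e1).op ∘
        F.presheaf.map (homOfLE (inf_le_left : U.ι ''ᵁ W ⊓ T.U ≤ U.ι ''ᵁ W)).op :=
    funext fun s => (res_res F e1 inf_le_left s).symm
  constructor
  · refine (iff_of_eq (congrArg Function.Injective e)).trans ?_
    exact (res_bijective F e1 e2).1.of_comp_iff _
  · refine (iff_of_eq (congrArg Function.Bijective e)).trans ?_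
    exact Function.Bijective.of_comp_iff' (res_bijective F e1 e2) _

variable [IsLocallyNoetherian X]

theorem exists_extend (hZ : StableUnderSpecialization Z) (U : X.Opens)
    (T' : ZClos.Cl (U.ι.base ⁻¹' Z)) :
    ∃ T : ZClos.Cl Z, ∀ y, y ∈ (T'.1 : Set U.toScheme) ↔ U.ι y ∈ (T.1 : Set X) := by
  let S : Set X := U.ι '' (T'.1 : Set U.toScheme)
  have hcl : closure S ∩ (U : Set X) ⊆ S := by
    rintro x ⟨hx, hxU⟩
    refine ⟨⟨x, hxU⟩, ?_, rfl⟩
    by_contra hn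
    obtain ⟨y, hy, z, hz, rfl⟩ := mem_closure_iff.1 hx (U.ι ''ᵁ T'.U : X.Opens)
      (U.ι ''ᵁ T'.U).2 ⟨⟨x, hxU⟩, hn, rfl⟩
    obtain ⟨z', hz', e⟩ := hy
    exact hz' (Subtype.ext e ▸ hz)
  have hSO : S ⊆ (U : Set X) := by rintro _ ⟨y, -, rfl⟩; exact y.2
  have hSZ : S ⊆ Z := by rintro _ ⟨y, hy, rfl⟩; exact T'.2 hy
  refine ⟨clOf hZ U hSO hcl hSZ, fun y => ⟨fun hy => subset_closure ⟨y, hy, rfl⟩, fun hy => ?_⟩⟩
  obtain ⟨z, hz, e⟩ := hcl ⟨hy, y.2⟩
  exact Subtype.ext e ▸ hz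

omit [IsLocallyNoetherian X] in
/-- The preimage of an index. -/
theorem exists_restrict (U : X.Opens) (T : ZClos.Cl Z) :
    ∃ T' : ZClos.Cl (U.ι.base ⁻¹' Z), ∀ y, y ∈ (T'.1 : Set U.toScheme) ↔ U.ι y ∈ (T.1 : Set X) :=
  ⟨⟨⟨U.ι ⁻¹' (T.1 : Set X), T.1.2.preimage U.ι.continuous⟩, fun _ hy => T.2 hy⟩, fun _ => Iff.rfl⟩

instance (U : X.Opens) : IsLocallyNoetherian U.toScheme :=
  isLocallyNoetherian_of_isOpenImmersion U.ι

theorem pure_restrict (hZ : StableUnderSpecialization Z) (U : X.Opens) (hF : ZClos.IsZPure Z F) :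
    ZClos.IsZPure (U.ι.base ⁻¹' Z) ((Scheme.Modules.restrictFunctor U.ι).obj F) := by
  rw [isZPure_iff_sections] at hF ⊢
  intro T' W hW
  obtain ⟨T, hT⟩ := exists_extend hZ U T'
  exact (restrict_res_iff U T T' hT W).1.2 (hF T _ (hW.image U.ι.continuous))

theorem closed_restrict (hZ : StableUnderSpecialization Z) (U : X.Opens) (hF : ZClos.IsZClosed Z F) :
    ZClos.IsZClosed (U.ι.base ⁻¹' Z) ((Scheme.Modules.restrictFunctor U.ι).obj F) := by
  rw [isZClosed_iff_sections] at hF ⊢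
  intro T' W hW
  obtain ⟨T, hT⟩ := exists_extend hZ U T'
  exact (restrict_res_iff U T T' hT W).2.2 (hF T _ (hW.image U.ι.continuous))

variable {ι : Type u} (U : ι → X.Opens) (hU : iSup U = ⊤)

omit [IsLocallyNoetherian X] in
include hU in
theorem exists_small {V : X.Opens} {x : X} (hx : x ∈ V) :
    ∃ (a : ι) (W : (U a).toScheme.Opens), IsCompact (W : Set (U a).toScheme) ∧
      x ∈ (U a).ι ''ᵁ W ∧ (U a).ι ''ᵁ W ≤ V := by
  obtain ⟨a, ha⟩ := Opens.mem_iSup.1 (hU.ge (Set.mem_univ x : x ∈ (⊤ : X.Opens)))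
  obtain ⟨W, hW, hxW, hWV⟩ := exists_affine_le (V ⊓ U a) (⟨hx, ha⟩ : x ∈ V ⊓ U a)
  have e : (U a).ι ''ᵁ (U a).ι ⁻¹ᵁ W = W :=
    (IV_eq (U a) W).trans (inf_eq_right.2 (hWV.trans inf_le_right))
  refine ⟨a, (U a).ι ⁻¹ᵁ W, ?_, e.symm ▸ hxW, e.le.trans (hWV.trans inf_le_left)⟩
  rw [(U a).ι.isEmbedding.isCompact_iff]
  have e' : ((U a).ι ''ᵁ (U a).ι ⁻¹ᵁ W : Set X) = (W : Set X) := congrArg SetLike.coe e
  change IsCompact (((U a).ι ''ᵁ (U a).ι ⁻¹ᵁ W : X.Opens) : Set X)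
  rw [e']
  exact hW.isCompact

include hU in
theorem res_injective_of_restrict
    (h : ∀ a, ZClos.IsZPure ((U a).ι.base ⁻¹' Z) ((Scheme.Modules.restrictFunctor (U a).ι).obj F))
    (T : ZClos.Cl Z) (V : X.Opens) :
    Function.Injective (F.presheaf.map (homOfLE (inf_le_left : V ⊓ T.U ≤ V)).op) := by
  rw [injective_iff_map_eq_zero]
  intro s hs
  refine section_ext F V s 0 fun x hx => ?_
  obtain ⟨a, W, hW, hxW, hWV⟩ := exists_small U hU hx
  obtain ⟨T', hT'⟩ := exists_restrict (U a) T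
  have hinj := (restrict_res_iff (U a) T T' hT' W).1.1 ((isZPure_iff_sections.1 (h a)) T' W hW)
  have h0 : F.presheaf.map (homOfLE hWV).op s = 0 := hinj (by
    have h1 := congrArg (F.presheaf.map
      (homOfLE (inf_le_inf_right T.U hWV : (U a).ι ''ᵁ W ⊓ T.U ≤ V ⊓ T.U)).op) hs
    rw [res_res, map_zero] at h1
    rw [res_res, map_zero]
    exact h1)
  rw [← germ_res' F hWV x hxW s, h0, map_zero, map_zero]

include hU in
theorem pure_of_restrict
    (h : ∀ a, ZClos.IsZPure ((U a).ι.base ⁻¹' Z) ((Scheme.Modules.restrictFunctor (U a).ι).obj F)) :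
    ZClos.IsZPure Z F :=
  isZPure_iff_sections.2 fun T V _ => res_injective_of_restrict U hU h T V

include hU in
theorem closed_of_restrict
    (h : ∀ a, ZClos.IsZClosed ((U a).ι.base ⁻¹' Z) ((Scheme.Modules.restrictFunctor (U a).ι).obj F)) :
    ZClos.IsZClosed Z F := by
  have hp : ∀ a, ZClos.IsZPure ((U a).ι.base ⁻¹' Z) ((Scheme.Modules.restrictFunctor (U a).ι).obj F) :=
    fun a => by
      haveI : IsIso (ZClos.rhoApp ((U a).ι.base ⁻¹' Z) ((Scheme.Modules.restrictFunctor (U a).ι).obj F)) := h a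
      exact (inferInstance : Mono (ZClos.rhoApp ((U a).ι.base ⁻¹' Z) ((Scheme.Modules.restrictFunctor (U a).ι).obj F)))
  have hinj := res_injective_of_restrict (F := F) U hU hp
  refine isZClosed_iff_sections.2 fun T V _ => ⟨hinj T V, fun s => ?_⟩
  have key : ∀ x : V, ∃ (W : X.Opens) (hW : W ≤ V), x.1 ∈ W ∧
      ∃ t, F.presheaf.map (homOfLE (inf_le_left : W ⊓ T.U ≤ W)).op t =
        F.presheaf.map (homOfLE (inf_le_inf_right T.U hW)).op s := fun x => by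
    obtain ⟨a, W, hW, hxW, hWV⟩ := exists_small U hU x.2
    obtain ⟨T', hT'⟩ := exists_restrict (U a) T
    have hb := (restrict_res_iff (U a) T T' hT' W).2.1 ((isZClosed_iff_sections.1 (h a)) T' W hW)
    exact ⟨_, hWV, hxW, hb.2 _⟩
  choose W hWV hxW t ht using key
  have hcompat : TopCat.Presheaf.IsCompatible ((Groth.Agent.QCohLib.toAbF X).obj F).1 W t := by
    intro x y
    change F.presheaf.map (homOfLE (inf_le_left : W x ⊓ W y ≤ W x)).op (t x) =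
      F.presheaf.map (homOfLE (inf_le_right : W x ⊓ W y ≤ W y)).op (t y)
    apply hinj T (W x ⊓ W y)
    have h1 := congrArg (F.presheaf.map (homOfLE (inf_le_inf_right T.U
      (inf_le_left : W x ⊓ W y ≤ W x))).op) (ht x)
    have h2 := congrArg (F.presheaf.map (homOfLE (inf_le_inf_right T.U
      (inf_le_right : W x ⊓ W y ≤ W y))).op) (ht y)
    rw [res_res, res_res] at h1 h2
    rw [res_res, res_res]
    exact h1.trans h2.symm
  obtain ⟨e, he, -⟩ := TopCat.Sheaf.existsUnique_gluing' ((Groth.Agent.QCohLib.toAbF X).obj F) W V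
    (fun x => homOfLE (hWV x)) (fun x hx => Opens.mem_iSup.2 ⟨⟨x, hx⟩, hxW _⟩) t hcompat
  refine ⟨e, section_ext F _ _ _ fun x hx => ?_⟩
  have he' : F.presheaf.map (homOfLE (hWV ⟨x, hx.1⟩)).op e = t ⟨x, hx.1⟩ := he ⟨x, hx.1⟩
  have hxI : x ∈ W ⟨x, hx.1⟩ ⊓ T.U := ⟨hxW _, hx.2⟩
  have h1 := congrArg (F.presheaf.germ _ x hxI) (ht ⟨x, hx.1⟩)
  rw [germ_res', germ_res', ← he', germ_res'] at h1
  rw [germ_res']
  exact h1

end ZClosLib
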