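import Groth.Agent.ZClosLib.Depth
import Groth.Agent.ZClosLib.Local
import Groth.Agent.CMCat.Local
import Groth.Agent.FlatDepth.Basic

/-! Consequences of the depth criteria for the Z-closure. -/

set_option autoImplicit false
set_option backward.isDefEq.respectTransparency false
set_option linter.style.haveILetI false

universe u

open CategoryTheory CategoryTheory.Limits AlgebraicGeometry Opposite TopologicalSpace
open Groth.Agent

namespace ZClosLib

variable {X : Scheme.{u}} [IsLocallyNoetherian X] {Z : Set X} {F : X.Modules}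

omit [IsLocallyNoetherian X] in
theorem toDiagram_stalk_injective_of_pure (T : ZClos.Cl Z) {x : X} (h : ZClos.IsZPureAt Z F x) :
    Function.Injective (PullbackMod.stalkLin (ZClos.toDiagram Z F T) x) := by
  show Function.Injective ((stalkF x).map (ZClos.toDiagram Z F T))
  intro a b hab
  refine h ?_
  show (stalkF x).map (ZClos.rhoApp Z F) a = (stalkF x).map (ZClos.rhoApp Z F) b
  rw [ZClos.rhoApp_eq Z F T, CategoryTheory.Functor.map_comp]
  exact congrArg ((stalkF x).map (colimit.ι ((ZClos.diagram Z).obj F) T)) hab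

theorem toDiagram_stalk_bijective_of_depth (hF : Coh.IsCoh F) (T : ZClos.Cl Z) {x : X}
    (h : ∀ y : X, y ⤳ x → y ∈ Z → (2 : ℕ∞) ≤ LocCoh.depth (X.presheaf.stalk y) (F.presheaf.stalk y)) :
    Function.Bijective (PullbackMod.stalkLin (ZClos.toDiagram Z F T) x) := by
  haveI : Coh.IsQCoh F := hF.1
  haveI : Coh.IsQCoh (((ZClos.diagram Z).obj F).obj T) := isQCoh_resPush F T.U
  haveI : Coh.IsQCoh ((ZClos.resPush T.U).obj F) := isQCoh_resPush F T.U
  have hinj : ∀ y : X, y ⤳ x → Function.Injective (PullbackMod.stalkLin (ZClos.toDiagram Z F T) y) := fun y hyx =>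
    toDiagram_stalk_injective_of_pure T (injective_of_not_ass hF y fun w hw hwZ =>
      not_isAssPoint_of_depth hF w (h w (hw.trans hyx) hwZ))
  refine ⟨hinj x specializes_rfl, AssLib.surjective_stalk_of_depth _ hF x hinj fun y hyx => ?_⟩
  by_cases hy : y ∈ T.U
  · exact Or.inl (toDiagram_stalk_bijective T hy)
  · exact Or.inr ⟨h y hyx (T.2 (not_not.mp hy)),
      AssLib.not_isAssPoint_of_injective (fun V => resPush_res_injective T.U V) hy⟩

omit [IsLocallyNoetherian X] in
theorem app_bijective_of_stalk {M N : X.Modules} (φ : M ⟶ N) (V : X.Opens)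
    (h : ∀ x ∈ V, Function.Bijective ((stalkF x).map φ)) : Function.Bijective (φ.app V) :=
  TopCat.Presheaf.app_bijective_of_stalkFunctor_map_bijective ((QCohLib.toAbF X).map φ) V h

/-- Depth two along `Z` on an open gives Z-closedness there. -/
theorem isZClosed_restrict_of_depth (hZ : StableUnderSpecialization Z) (hF : Coh.IsCoh F) (U : X.Opens)
    (h : ∀ x ∈ U, ∀ y : X, y ⤳ x → y ∈ Z → (2 : ℕ∞) ≤ LocCoh.depth (X.presheaf.stalk y) (F.presheaf.stalk y)) :
    ZClos.IsZClosed (U.ι.base ⁻¹' Z) ((Scheme.Modules.restrictFunctor U.ι).obj F) := by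
  rw [isZClosed_iff_sections]
  intro T' W hW
  obtain ⟨T, hT⟩ := exists_extend hZ U T'
  refine (restrict_res_iff U T T' hT W).2.2 ((toDiagram_bijective_iff F T.U _).1 ?_)
  exact app_bijective_of_stalk (ZClos.toDiagram Z F T) (U.ι ''ᵁ W) fun x hx =>
    toDiagram_stalk_bijective_of_depth hF T (h x (by obtain ⟨w, -, rfl⟩ := hx; exact w.2))

/-- Z-closedness on an open gives depth two along `Z` there. -/
theorem depth_of_isZClosed_restrict (hZ : StableUnderSpecialization Z) (hF : Coh.IsCoh F) (V : X.Opens)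
    (h : ZClos.IsZClosed (V.ι.base ⁻¹' Z) ((Scheme.Modules.restrictFunctor V.ι).obj F)) {x : X} (hx : x ∈ V)
    (hxZ : x ∈ Z) : (2 : ℕ∞) ≤ LocCoh.depth (X.presheaf.stalk x) (F.presheaf.stalk x) := by
  rw [isZClosed_iff_sections] at h
  have hsec : ∀ (T : ZClos.Cl Z) (W : X.Opens), IsAffineOpen W → W ≤ V →
      Function.Bijective ((ZClos.toDiagram Z F T).app W) := fun T W hW hWV => by
    obtain ⟨T', hT⟩ := exists_restrict V T
    have e : V.ι ''ᵁ V.ι ⁻¹ᵁ W = W := (IV_eq V W).trans (inf_eq_right.mpr hWV)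
    have hc : IsCompact ((V.ι ⁻¹ᵁ W : V.toScheme.Opens) : Set V.toScheme) := by
      rw [V.ι.isOpenEmbedding.isInducing.isCompact_iff]
      show IsCompact ((V.ι ''ᵁ V.ι ⁻¹ᵁ W : X.Opens) : Set X)
      rw [e]
      exact hW.isCompact
    have h1 := (restrict_res_iff V T T' hT _).2.1 (h T' _ hc)
    rw [e] at h1
    exact (toDiagram_bijective_iff F T.U W).2 h1
  refine two_le_depth_of_bijective_at hZ hF hxZ ⟨?_, ?_⟩
  · show Function.Injective ((stalkF x).map (ZClos.rhoApp Z F))
    rw [injective_iff_map_eq_zero]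
    intro a ha
    rw [ZClos.rhoApp_eq Z F ⊥, CategoryTheory.Functor.map_comp, ConcreteCategory.comp_apply] at ha
    obtain ⟨T, hT, h0⟩ := exists_stalk_zero ((ZClos.diagram Z).obj F) x ⊥ _ ha
    rw [← ConcreteCategory.comp_apply, ← CategoryTheory.Functor.map_comp, ZClos.toDiagram_map] at h0
    obtain ⟨U, hxU, s, rfl⟩ := TopCat.Presheaf.exists_germ_eq F.presheaf a
    rw [map_germ] at h0
    obtain ⟨W, hxW, iW, iW', he⟩ :=
      TopCat.Presheaf.germ_eq _ x hxU hxU _ 0 (h0.trans (map_zero _).symm)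
    obtain ⟨W₁, hW₁, hxW₁, hle : W₁ ≤ (W : X.Opens) ⊓ V⟩ := exists_affine_le ((W : X.Opens) ⊓ V) ⟨hxW, hx⟩
    have he' : (((ZClos.diagram Z).obj F).obj T).presheaf.map (homOfLE iW.le).op
        ((ZClos.toDiagram Z F T).app U s) = 0 := he.trans (map_zero _)
    have h3 : (ZClos.toDiagram Z F T).app W₁ (F.presheaf.map (homOfLE ((hle.trans inf_le_left).trans iW.le)).op s) = 0 := by
      rw [app_res, ← res_res _ (hle.trans inf_le_left) iW.le, he', map_zero]
    rw [← germ_res' F ((hle.trans inf_le_left).trans iW.le) x hxW₁ s,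
      (hsec T W₁ hW₁ (hle.trans inf_le_right)).1 (a₁ := F.presheaf.map (homOfLE _).op s) (a₂ := 0)
        (by rw [h3, map_zero]), map_zero]
  · show Function.Surjective ((stalkF x).map (ZClos.rhoApp Z F))
    intro b
    obtain ⟨T, a, rfl⟩ := exists_stalk_rep ((ZClos.diagram Z).obj F) x b
    obtain ⟨U, hxU, t, rfl⟩ := TopCat.Presheaf.exists_germ_eq (((ZClos.diagram Z).obj F).obj T).presheaf a
    obtain ⟨W, hW, hxW, hle : W ≤ U ⊓ V⟩ := exists_affine_le (U ⊓ V) ⟨hxU, hx⟩
    obtain ⟨s, hs⟩ := (hsec T W hW (hle.trans inf_le_right)).2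
      ((((ZClos.diagram Z).obj F).obj T).presheaf.map (homOfLE (hle.trans inf_le_left)).op t)
    refine ⟨F.presheaf.germ W x hxW s, ?_⟩
    rw [ZClos.rhoApp_eq Z F T, CategoryTheory.Functor.map_comp, ConcreteCategory.comp_apply, map_germ, hs, germ_res']
    rfl

omit [IsLocallyNoetherian X] in
theorem isZClosedAt_of_notMem [IsLocallyNoetherian X] (x : X) (hx : x ∉ Z) : ZClos.IsZClosedAt Z F x :=
  rho_stalk_bijective hx

/-- The stalk of the closure off `Z`. -/
noncomputable def stalkEquiv {x : X} (h : ZClos.IsZClosedAt Z F x) :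
    F.presheaf.stalk x ≃ₗ[X.presheaf.stalk x] ((ZClos.H0 Z).obj F).presheaf.stalk x :=
  LinearEquiv.ofBijective (PullbackMod.stalkLin (ZClos.rhoApp Z F) x) h

/-- An associated point gives an associated prime of the stalk at a specialization. -/
theorem comap_mem_associatedPrimes {M : X.Modules} [Coh.IsQCoh M] {x y : X} (h : x ⤳ y) (hx : Curv2.IsAssPoint M x) :
    (IsLocalRing.maximalIdeal (X.presheaf.stalk x)).comap (X.presheaf.stalkSpecializes h).hom ∈
      associatedPrimes (X.presheaf.stalk y) (M.presheaf.stalk y) := by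
  obtain ⟨W, hW, hyW, -⟩ := exists_affine_le ⊤ (Set.mem_univ y : y ∈ (⊤ : X.Opens))
  haveI := QCohLib.isNoetherianRing_section hW
  have hxW : x ∈ W := h.mem_open W.2 hyW
  letI := Module.compHom (M.presheaf.stalk y) (X.presheaf.germ W y hyW).hom
  letI : Algebra Γ(X, W) (X.presheaf.stalk y) := TopCat.Presheaf.algebra_section_stalk X.presheaf ⟨y, hyW⟩
  haveI := hW.isLocalization_stalk ⟨y, hyW⟩
  haveI : IsScalarTower Γ(X, W) (X.presheaf.stalk y) (M.presheaf.stalk y) := .of_algebraMap_smul fun _ _ => rfl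
  haveI : IsLocalizedModule (AssLib.pr hW hyW).primeCompl (FlatLocus.germL M W y hyW) :=
    FlatLocus.isLocalizedModule_germL M hW y hyW
  refine Module.associatedPrimes.mem_associatedPrimes_of_comap_mem_associatedPrimes_of_isLocalizedModule
    (AssLib.pr hW hyW).primeCompl (FlatLocus.germL M W y hyW) _ ?_
  rw [Ideal.comap_comap]
  have e : (X.presheaf.stalkSpecializes h).hom.comp (algebraMap Γ(X, W) (X.presheaf.stalk y)) =
      (X.presheaf.germ W x hxW).hom := by
    refine RingHom.ext fun a => ?_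
    exact TopCat.Presheaf.germ_stalkSpecializes_apply X.presheaf hyW h a
  rw [e, AssLib.under_maximalIdeal hW hxW]
  exact (AssLib.isAssPoint_iff hW hxW).mp hx

theorem nontrivial_of_ass_specializes {M : X.Modules} [Coh.IsQCoh M] {x y : X} (h : x ⤳ y) (hx : Curv2.IsAssPoint M x) :
    Nontrivial (M.presheaf.stalk y) := by
  by_contra hn
  haveI := not_nontrivial_iff_subsingleton.mp hn
  exact not_isAssociatedPrime_of_subsingleton (comap_mem_associatedPrimes h hx)

end ZClosLib

namespace ZClosLib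

variable {X : Scheme.{u}} [IsLocallyNoetherian X] {M : X.Modules}

/-- A module supported everywhere has stalks supported everywhere. -/
theorem support_stalk_eq_univ [Coh.IsQCoh M] (hs : ∀ z : X, Nontrivial (M.presheaf.stalk z)) (x : X) :
    Module.support (X.presheaf.stalk x) (M.presheaf.stalk x) = Set.univ := by
  refine Set.eq_univ_of_forall fun q => ?_
  obtain ⟨W, hW, hxW, -⟩ := exists_affine_le ⊤ (Set.mem_univ x : x ∈ (⊤ : X.Opens))
  haveI := QCohLib.isNoetherianRing_section hW
  letI : Algebra Γ(X, W) (X.presheaf.stalk x) := TopCat.Presheaf.algebra_section_stalk X.presheaf ⟨x, hxW⟩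
  haveI := hW.isLocalization_stalk ⟨x, hxW⟩
  let q' : PrimeSpectrum Γ(X, W) := PrimeSpectrum.comap (algebraMap Γ(X, W) (X.presheaf.stalk x)) q
  have hq'x : q'.asIdeal ≤ AssLib.pr hW hxW := by
    rw [← AssLib.under_maximalIdeal hW hxW]
    exact Ideal.comap_mono (IsLocalRing.le_maximalIdeal q.2.ne_top)
  have hx' : AssLib.pt hW q' ⤳ x := (AssLib.specializes_iff hW hxW (AssLib.pt_mem hW q')).mpr
    (by rw [AssLib.pr_pt]; exact hq'x)
  obtain ⟨z, hzx', hz⟩ := AssLib.exists_isAssPoint_of_nontrivial (hs (AssLib.pt hW q'))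
  have hzW : z ∈ W := hzx'.mem_open W.2 (AssLib.pt_mem hW q')
  have hP := comap_mem_associatedPrimes (hzx'.trans hx') hz
  let P : PrimeSpectrum (X.presheaf.stalk x) :=
    ⟨(IsLocalRing.maximalIdeal (X.presheaf.stalk z)).comap (X.presheaf.stalkSpecializes (hzx'.trans hx')).hom, hP.isPrime⟩
  have hPsupp : P ∈ Module.support (X.presheaf.stalk x) (M.presheaf.stalk x) :=
    Module.mem_support_iff_exists_annihilator.mpr <| by
      obtain ⟨-, t, ht⟩ := isAssociatedPrime_iff.mp hP
      refine ⟨t, fun a ha => ?_⟩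
      show a ∈ (IsLocalRing.maximalIdeal (X.presheaf.stalk z)).comap _
      rw [ht, Submodule.mem_colon_singleton, Submodule.mem_bot]
      exact (Submodule.mem_annihilator_span_singleton t a).mp ha
  refine Module.mem_support_mono (p := P) ?_ hPsupp
  show P.asIdeal ≤ q.asIdeal
  rw [← IsLocalization.map_under (AssLib.pr hW hxW).primeCompl (X.presheaf.stalk x) P.asIdeal,
    ← IsLocalization.map_under (AssLib.pr hW hxW).primeCompl (X.presheaf.stalk x) q.asIdeal]
  refine Ideal.map_mono ?_
  have e : (X.presheaf.stalkSpecializes (hzx'.trans hx')).hom.comp (algebraMap Γ(X, W) (X.presheaf.stalk x)) =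
      (X.presheaf.germ W z hzW).hom := by
    refine RingHom.ext fun a => ?_
    exact TopCat.Presheaf.germ_stalkSpecializes_apply X.presheaf hxW (hzx'.trans hx') a
  show Ideal.comap _ (Ideal.comap _ _) ≤ Ideal.comap _ q.asIdeal
  rw [Ideal.comap_comap, e, AssLib.under_maximalIdeal hW hzW]
  exact ((AssLib.specializes_iff hW (AssLib.pt_mem hW q') hzW).mp hzx').trans (AssLib.pr_pt hW q').le

theorem supportDim_stalk_eq (hM : Coh.IsCoh M) (hs : ∀ z : X, Nontrivial (M.presheaf.stalk z)) (x : X) :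
    Module.supportDim (X.presheaf.stalk x) (M.presheaf.stalk x) = ringKrullDim (X.presheaf.stalk x) := by
  haveI : Coh.IsQCoh M := hM.1
  refine le_antisymm (Module.supportDim_le_ringKrullDim _ _) ?_
  rw [Module.supportDim, support_stalk_eq_univ hs x]
  exact Order.krullDim_le_of_strictMono (fun p => ⟨p, Set.mem_univ p⟩) fun _ _ h => h

end ZClosLib

namespace ZClosLib

variable {X : Scheme.{u}} [IsLocallyNoetherian X] {F : X.Modules}

omit [IsLocallyNoetherian X] in
theorem ringKrullDim_stalk_le {a b : X} (h : a ⤳ b) :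
    ringKrullDim (X.presheaf.stalk a) ≤ ringKrullDim (X.presheaf.stalk b) := by
  rw [ringKrullDim_stalk_eq_coheight, ringKrullDim_stalk_eq_coheight]
  exact WithBot.coe_le_coe.mpr (Order.coheight_anti (show b ≤ a from h))

/-- Without associated points of dimension one, depth bounds dimension in dimension at most one. -/
theorem ringKrullDim_le_depth (hF : Coh.IsCoh F)
    (hass : ∀ x ∈ AssSch.Ass F, ringKrullDim (X.presheaf.stalk x) ≠ 1) {x : X}
    (hx : x ∉ ZClos.dimGe X 2) :
    ringKrullDim (X.presheaf.stalk x) ≤ ((LocCoh.depth (X.presheaf.stalk x) (F.presheaf.stalk x) : ℕ∞) : WithBot ℕ∞) := by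
  obtain ⟨n, hn⟩ := WithBot.ne_bot_iff_exists.mp (ringKrullDim_ne_bot (R := X.presheaf.stalk x))
  have hlt : ¬ (2 : ℕ∞) ≤ n := fun h => hx (show (2 : WithBot ℕ∞) ≤ _ by rw [← hn]; exact WithBot.coe_le_coe.mpr h)
  rw [← hn]
  refine WithBot.coe_le_coe.mpr ?_
  rcases eq_or_ne n 0 with h0 | h0
  · simp [h0]
  have h1 : n = 1 := by
    have h2 : n < 2 := not_le.mp hlt
    lift n to ℕ using (fun h => by simp [h] at h2)
    norm_cast at h0 h2 ⊢
    omega
  rw [h1]
  exact (one_le_depth_iff_notMem_ass hF x).mpr fun h => hass x h (by rw [← hn, h1]; rfl)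

end ZClosLib
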