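import Groth.Agent.ZClosLib.QCoh
import Groth.Agent.AssLib.StalkDepth

/-! Depth criteria for Z-purity and Z-closedness at a point. -/

set_option autoImplicit false
set_option backward.isDefEq.respectTransparency false
set_option linter.style.haveILetI false

universe u

open CategoryTheory CategoryTheory.Limits AlgebraicGeometry Opposite TopologicalSpace
open Groth.Agent

namespace ZClosLib

variable {X : Scheme.{u}} [IsLocallyNoetherian X] {Z : Set X} {F : X.Modules}

/-- Depth at least one means not associated. -/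
theorem one_le_depth_iff_notMem_ass (hF : Coh.IsCoh F) (x : X) :
    (1 : ℕ∞) ≤ LocCoh.depth (X.presheaf.stalk x) (F.presheaf.stalk x) ↔ ¬ Curv2.IsAssPoint F x := by
  haveI : Coh.IsQCoh F := hF.1
  haveI : Module.Finite (X.presheaf.stalk x) (F.presheaf.stalk x) := PullbackMod.finite_stalk_of_isFT hF.2 x
  rw [CAlgBasics.one_le_depth_iff]
  constructor
  · intro h hass
    obtain ⟨hp, t, ht⟩ := isAssociatedPrime_iff.mp ((AssLib.isWeakAssPoint_iff_isAssPoint F x).mp
      ((AssLib.isWeakAssPoint_iff_isAssPoint F x).mpr hass))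
    have ht0 : t = 0 := h t fun a ha => by
      rw [ht, Submodule.mem_colon_singleton, Submodule.mem_bot] at ha
      exact ha
    refine hp.ne_top (ht.trans (eq_top_iff.mpr fun a _ => ?_))
    rw [Submodule.mem_colon_singleton, ht0, smul_zero, Submodule.mem_bot]
  · exact fun h z hz => by_contra fun hne => h (AssLib.isAssPoint_of_kill z hne hz)

theorem not_isAssPoint_of_depth (hF : Coh.IsCoh F) (x : X)
    (h : (2 : ℕ∞) ≤ LocCoh.depth (X.presheaf.stalk x) (F.presheaf.stalk x)) : ¬ Curv2.IsAssPoint F x :=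
  (one_le_depth_iff_notMem_ass hF x).mp (le_trans (by norm_num) h)

omit [IsLocallyNoetherian X] in
/-- The closure of a point of `Z`. -/
def clPt (hZ : StableUnderSpecialization Z) {y : X} (hy : y ∈ Z) : ZClos.Cl Z :=
  ⟨⟨closure {y}, isClosed_closure⟩, fun _ hz => hZ (specializes_iff_mem_closure.mpr hz) hy⟩

omit [IsLocallyNoetherian X] in
theorem notMem_clPt_U (hZ : StableUnderSpecialization Z) {y : X} (hy : y ∈ Z) : y ∉ (clPt hZ hy).U :=
  fun h => h (subset_closure rfl)

omit [IsLocallyNoetherian X] in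
theorem not_specializes_of_mem_clPt_U (hZ : StableUnderSpecialization Z) {y : X} (hy : y ∈ Z) {z : X}
    (hz : z ∈ (clPt hZ hy).U) : ¬ y ⤳ z :=
  fun h => hz (specializes_iff_mem_closure.mp h)

omit [IsLocallyNoetherian X] in
/-- Injectivity of a map at a point passes to its generizations. -/
theorem injective_generization {M N : X.Modules} [Coh.IsQCoh M] [Coh.IsQCoh N] (φ : M ⟶ N) {y x : X}
    (h : y ⤳ x) (hφ : Function.Injective (PullbackMod.stalkLin φ x)) :
    Function.Injective (PullbackMod.stalkLin φ y) := by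
  obtain ⟨W, hW, hxW, -⟩ := exists_affine_le ⊤ (Set.mem_univ x : x ∈ (⊤ : X.Opens))
  rw [(PullbackMod.stalk_criteria φ hW x hxW).2.2] at hφ
  rw [(PullbackMod.stalk_criteria φ hW y (h.mem_open W.2 hxW)).2.2]
  intro m hm
  obtain ⟨s, hs, hsm⟩ := hφ m hm
  exact ⟨s, h.mem_open (X.basicOpen s).2 hs, hsm⟩

omit [IsLocallyNoetherian X] in
/-- Surjectivity of a map at a point passes to its generizations. -/
theorem surjective_generization {M N : X.Modules} [Coh.IsQCoh M] [Coh.IsQCoh N] (φ : M ⟶ N) {y x : X}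
    (h : y ⤳ x) (hφ : Function.Surjective (PullbackMod.stalkLin φ x)) :
    Function.Surjective (PullbackMod.stalkLin φ y) := by
  obtain ⟨W, hW, hxW, -⟩ := exists_affine_le ⊤ (Set.mem_univ x : x ∈ (⊤ : X.Opens))
  rw [(PullbackMod.stalk_criteria φ hW x hxW).2.1] at hφ
  rw [(PullbackMod.stalk_criteria φ hW y (h.mem_open W.2 hxW)).2.1]
  intro q
  obtain ⟨s, hs, hsm⟩ := hφ q
  exact ⟨s, h.mem_open (X.basicOpen s).2 hs, hsm⟩

omit [IsLocallyNoetherian X] in
theorem rhoStalk_eq (x : X) (e : F.presheaf.stalk x) :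
    ZClos.rhoStalk Z F x e = PullbackMod.stalkLin (ZClos.rhoApp Z F) x e := rfl

theorem injective_of_not_ass (hF : Coh.IsCoh F) (x : X)
    (h : ∀ y : X, y ⤳ x → y ∈ Z → ¬ Curv2.IsAssPoint F y) : ZClos.IsZPureAt Z F x := by
  haveI : Coh.IsQCoh F := hF.1
  show Function.Injective ((stalkF x).map (ZClos.rhoApp Z F))
  rw [injective_iff_map_eq_zero]
  intro a ha
  obtain ⟨U, hxU, s, rfl⟩ := TopCat.Presheaf.exists_germ_eq F.presheaf a
  rw [map_germ] at ha
  obtain ⟨W, hxW, iW, iW', he⟩ :=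
    TopCat.Presheaf.germ_eq _ x hxU hxU _ 0 (ha.trans (map_zero _).symm)
  have he' : ((ZClos.H0 Z).obj F).presheaf.map (homOfLE iW.le).op
      ((ZClos.rhoApp Z F).app U s) = 0 := he.trans (map_zero _)
  obtain ⟨W₁, hW₁, hxW₁, hle : W₁ ≤ (W : X.Opens)⟩ := exists_affine_le W hxW
  have hle' : W₁ ≤ U := hle.trans iW.le
  have h0 : (ZClos.rhoApp Z F).app W₁ (F.presheaf.map (homOfLE hle').op s) = 0 := by
    rw [app_res, ← res_res _ hle iW.le, he', map_zero]
  rw [rho_eq_inc F ⊥] at h0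
  obtain ⟨T', hT, hres⟩ := inc_eq_zero F hW₁.isCompact ⊥ _ h0
  rw [res_res, res_res] at hres
  by_contra hne
  rw [← germ_res' F hle' x hxW₁ s] at hne
  obtain ⟨y, hyW, hyx, hya, hys⟩ := AssLib.exists_isAssPoint (F.presheaf.map (homOfLE hle').op s) hxW₁ hne
  refine h y hyx ?_ hya
  by_contra hyZ
  refine hys ?_
  have hyI : y ∈ IV T'.U W₁ := mem_IV.2 ⟨fun hT => hyZ (T'.2 hT), hyW⟩
  rw [germ_res', ← germ_res' F ((IV_mono le_rfl hle').trans (IV_le_right T'.U U)) y hyI s, hres, map_zero]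

theorem not_ass_of_injective (hZ : StableUnderSpecialization Z) (hF : Coh.IsCoh F) {x : X}
    (h : ZClos.IsZPureAt Z F x) {y : X} (hyx : y ⤳ x) (hy : y ∈ Z) : ¬ Curv2.IsAssPoint F y := by
  haveI : Coh.IsQCoh F := hF.1
  intro hass
  obtain ⟨W, hW, hxW, -⟩ := exists_affine_le ⊤ (Set.mem_univ x : x ∈ (⊤ : X.Opens))
  haveI := QCohLib.isNoetherianRing_section hW
  have hyW : y ∈ W := hyx.mem_open W.2 hxW
  obtain ⟨hp, g, hg⟩ := isAssociatedPrime_iff.mp ((AssLib.isAssPoint_iff hW hyW).mp hass)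
  have hg0 : F.presheaf.map (homOfLE (IV_le_right (clPt hZ hy).U W)).op g = 0 := by
    refine section_ext _ _ _ _ fun z hz => ?_
    rw [map_zero, germ_res']
    obtain ⟨hzT, hzW⟩ := mem_IV.1 hz
    obtain ⟨a, hay, haz⟩ : ∃ a ∈ AssLib.pr hW hyW, a ∉ AssLib.pr hW hzW := by
      by_contra hc
      push Not at hc
      exact not_specializes_of_mem_clPt_U hZ hy hzT ((AssLib.specializes_iff hW hzW hyW).mpr hc)
    rw [hg, Submodule.mem_colon_singleton, Submodule.mem_bot] at hay
    exact (AssLib.germ_eq_zero_iff hW hzW g).mpr ⟨a, haz, hay⟩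
  have h0 : (stalkF x).map (ZClos.rhoApp Z F) (F.presheaf.germ W x hxW g) = 0 := by
    rw [map_germ, rho_eq_inc F (clPt hZ hy), hg0, map_zero, map_zero]
  have h1 : F.presheaf.germ W x hxW g = 0 :=
    (injective_iff_map_eq_zero ((stalkF x).map (ZClos.rhoApp Z F)).hom).mp h _ h0
  obtain ⟨a, hax, ha0⟩ := (AssLib.germ_eq_zero_iff hW hxW g).mp h1
  refine hax ((AssLib.specializes_iff hW hxW hyW).mp hyx ?_)
  rw [hg, Submodule.mem_colon_singleton, Submodule.mem_bot]
  exact ha0

theorem isZPureAt_iff (hZ : StableUnderSpecialization Z) (hF : Coh.IsCoh F) (x : X) :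
    ZClos.IsZPureAt Z F x ↔
      ∀ y : X, y ⤳ x → y ∈ Z → (1 : ℕ∞) ≤ LocCoh.depth (X.presheaf.stalk y) (F.presheaf.stalk y) :=
  ⟨fun h y hyx hy => (one_le_depth_iff_notMem_ass hF y).mpr (not_ass_of_injective hZ hF h hyx hy),
    fun h => injective_of_not_ass hF x fun y hyx hy => (one_le_depth_iff_notMem_ass hF y).mp (h y hyx hy)⟩

omit [IsLocallyNoetherian X] in
/-- The unit is bijective on stalks off `T`. -/
theorem toDiagram_stalk_bijective (T : ZClos.Cl Z) {y : X} (hy : y ∈ T.U) :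
    Function.Bijective (PullbackMod.stalkLin (ZClos.toDiagram Z F T) y) := by
  show Function.Bijective ((stalkF y).map (ZClos.toDiagram Z F T))
  constructor
  · rw [injective_iff_map_eq_zero]
    intro a ha
    obtain ⟨V, hyV, s, rfl⟩ := TopCat.Presheaf.exists_germ_eq F.presheaf a
    rw [map_germ] at ha
    obtain ⟨W, hyW, iW, iW', he⟩ :=
      TopCat.Presheaf.germ_eq _ y hyV hyV _ 0 (ha.trans (map_zero _).symm)
    have he' : F.presheaf.map (homOfLE (IV_mono (le_refl T.U) iW.le)).op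
        (F.presheaf.map (homOfLE (IV_le_right T.U V)).op s) = 0 := he.trans (map_zero _)
    rw [res_res] at he'
    rw [← germ_res' F ((IV_mono (le_refl T.U) iW.le).trans (IV_le_right T.U V)) y (mem_IV.2 ⟨hy, hyW⟩) s, he', map_zero]
  · intro a
    obtain ⟨V, hyV, t, rfl⟩ := TopCat.Presheaf.exists_germ_eq (((ZClos.diagram Z).obj F).obj T).presheaf a
    have hyI : y ∈ IV T.U V := mem_IV.2 ⟨hy, hyV⟩
    refine ⟨F.presheaf.germ (IV T.U V) y hyI t, ?_⟩
    rw [map_germ]
    refine Eq.trans ?_ (germ_res' (((ZClos.diagram Z).obj F).obj T) (IV_le_right T.U V) y hyI t)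
    congr 1

omit [IsLocallyNoetherian X] in
theorem resPush_res_injective (U V : X.Opens) :
    Function.Injective (AssLib.rs (M := (ZClos.resPush U).obj F) (inf_le_left : V ⊓ U ≤ V)) :=
  (res_bijective F (IV_mono (le_refl U) (inf_le_left : V ⊓ U ≤ V))
    (le_trans (le_of_eq (IV_eq U V)) (by rw [IV_eq]; exact le_inf inf_le_left (le_inf inf_le_right inf_le_left)))).1

theorem isZClosedAt_of_depth (hF : Coh.IsCoh F) (x : X)
    (h : ∀ y : X, y ⤳ x → y ∈ Z → (2 : ℕ∞) ≤ LocCoh.depth (X.presheaf.stalk y) (F.presheaf.stalk y)) :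
    ZClos.IsZClosedAt Z F x := by
  haveI : Coh.IsQCoh F := hF.1
  have hpure : ∀ y : X, y ⤳ x → ZClos.IsZPureAt Z F y := fun y hyx =>
    injective_of_not_ass hF y fun w hw hwZ => not_isAssPoint_of_depth hF w (h w (hw.trans hyx) hwZ)
  refine ⟨hpure x specializes_rfl, fun e => ?_⟩
  obtain ⟨T, a, rfl⟩ := exists_stalk_rep ((ZClos.diagram Z).obj F) x e
  haveI : Coh.IsQCoh (((ZClos.diagram Z).obj F).obj T) := isQCoh_resPush F T.U
  haveI : Coh.IsQCoh ((ZClos.resPush T.U).obj F) := isQCoh_resPush F T.U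
  have hsurj : Function.Surjective (PullbackMod.stalkLin (ZClos.toDiagram Z F T) x) := by
    refine AssLib.surjective_stalk_of_depth _ hF x (fun y hyx => ?_) fun y hyx => ?_
    · have h1 : ZClos.rhoStalk Z F y = (stalkF y).map (ZClos.toDiagram Z F T) ≫
          (stalkF y).map (colimit.ι ((ZClos.diagram Z).obj F) T) := by
        rw [← CategoryTheory.Functor.map_comp, ← ZClos.rhoApp_eq]
        rfl
      intro a b hab
      refine hpure y hyx ?_
      rw [h1]
      exact congrArg ((stalkF y).map (colimit.ι ((ZClos.diagram Z).obj F) T)) hab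
    · by_cases hy : y ∈ T.U
      · exact Or.inl (toDiagram_stalk_bijective T hy)
      · exact Or.inr ⟨h y hyx (T.2 (not_not.mp hy)),
          AssLib.not_isAssPoint_of_injective (fun V => resPush_res_injective T.U V) hy⟩
  obtain ⟨b, hb⟩ := hsurj a
  refine ⟨b, ?_⟩
  rw [← hb]
  show (stalkF x).map (ZClos.rhoApp Z F) b = _
  rw [ZClos.rhoApp_eq Z F T, CategoryTheory.Functor.map_comp]
  rfl

omit [IsLocallyNoetherian X] in
theorem resPush_smul (U V : X.Opens) (a : Γ(X, V)) (s : Γ(F, IV U V)) :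
    @id Γ(F, IV U V) (a • (@id Γ((ZClos.resPush U).obj F, V) s)) =
      X.presheaf.map (homOfLE (IV_le_right U V)).op a • s := by
  show ((U.ι.appIso (U.ι ⁻¹ᵁ V)).inv (U.ι.app V a)) • s = _
  congr 1
  rw [Scheme.Opens.ι_app, Scheme.Opens.ι_appIso]
  rfl

theorem inc_smul (T : ZClos.Cl Z) (V : X.Opens) (a : Γ(X, V)) (s : Γ(F, IV T.U V)) :
    inc F Z T V (X.presheaf.map (homOfLE (IV_le_right T.U V)).op a • s) = a • inc F Z T V s :=
  (congrArg (inc F Z T V) (resPush_smul T.U V a s).symm).trans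
    (Scheme.Modules.Hom.app_smul (colimit.ι ((ZClos.diagram Z).obj F) T) a s)

theorem two_le_depth_of_bijective_at (hZ : StableUnderSpecialization Z) (hF : Coh.IsCoh F) {y : X} (hy : y ∈ Z)
    (h : ZClos.IsZClosedAt Z F y) :
    (2 : ℕ∞) ≤ LocCoh.depth (X.presheaf.stalk y) (F.presheaf.stalk y) := by
  haveI : Coh.IsQCoh F := hF.1
  haveI : Module.Finite (X.presheaf.stalk y) (F.presheaf.stalk y) := PullbackMod.finite_stalk_of_isFT hF.2 y
  rw [CAlgBasics.two_le_depth_iff]
  refine ⟨fun z hz => by_contra fun hne => not_ass_of_injective hZ hF h.1 specializes_rfl hy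
      (AssLib.isAssPoint_of_kill z hne hz), fun r _ hreg =>
    AssLib.socleZeroMod_of_extend hF (notMem_clPt_U hZ hy) (fun V hxV g => ?_) r hreg⟩
  let T := clPt hZ hy
  have hle : IV T.U V ≤ V ⊓ T.U := le_inf (IV_le_right T.U V) (IV_le_left T.U V)
  let g' : Γ(F, IV T.U V) := F.presheaf.map (homOfLE hle).op g
  obtain ⟨e, he⟩ := h.2 (((ZClos.H0 Z).obj F).presheaf.germ V y hxV (inc F Z T V g'))
  refine ⟨e, fun a ζ hag => ?_⟩
  have h1 : X.presheaf.map (homOfLE (IV_le_right T.U V)).op a • g' =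
      F.presheaf.map (homOfLE (IV_le_right T.U V)).op ζ := by
    have := congrArg (AssLib.rs (M := F) hle) hag
    rw [AssLib.rs_smul, AssLib.res_res, AssLib.rs_rs] at this
    exact this
  refine h.1 ?_
  rw [rhoStalk_eq, map_smul, ← rhoStalk_eq, he, rhoStalk_eq, PullbackMod.stalkLin_germ, rho_eq_inc F T, ← h1,
    inc_smul]
  exact (PresheafOfModules.germ_smul (R := X.presheaf) ((ZClos.H0 Z).obj F).val y V hxV a _).symm

theorem isZClosedAt_iff (hZ : StableUnderSpecialization Z) (hF : Coh.IsCoh F) (x : X) :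
    ZClos.IsZClosedAt Z F x ↔
      ∀ y : X, y ⤳ x → y ∈ Z → (2 : ℕ∞) ≤ LocCoh.depth (X.presheaf.stalk y) (F.presheaf.stalk y) := by
  refine ⟨fun h y hyx hy => ?_, isZClosedAt_of_depth hF x⟩
  haveI : Coh.IsQCoh F := hF.1
  haveI : Coh.IsQCoh ((ZClos.H0 Z).obj F) := isQCoh_H0 F
  refine two_le_depth_of_bijective_at hZ hF hy
    ⟨injective_generization (ZClos.rhoApp Z F) hyx h.1, surjective_generization (ZClos.rhoApp Z F) hyx h.2⟩

/-- A coherent closure has depth at least two along `Z`. -/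
theorem two_le_depth_H0 (hZ : StableUnderSpecialization Z) (hH : Coh.IsCoh ((ZClos.H0 Z).obj F)) {x : X}
    (hx : x ∈ Z) :
    (2 : ℕ∞) ≤ LocCoh.depth (X.presheaf.stalk x) (((ZClos.H0 Z).obj F).presheaf.stalk x) := by
  refine (isZClosedAt_iff hZ hH x).mp ?_ x specializes_rfl hx
  haveI : IsIso (ZClos.rhoApp Z ((ZClos.H0 Z).obj F)) := isZClosed_H0
  show Function.Bijective ((stalkF x).map (ZClos.rhoApp Z ((ZClos.H0 Z).obj F)))
  exact ConcreteCategory.bijective_of_isIso _

end ZClosLib
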