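import Groth.Prelude.Def_ZClos
import Groth.Agent.QCohLib.Exact
import Groth.Agent.S0484
import Mathlib.CategoryTheory.Limits.Preserves.FunctorCategory

/-! Left exactness of the Z-closure. -/

set_option autoImplicit false
set_option backward.isDefEq.respectTransparency false
set_option linter.style.haveILetI false

universe u

open CategoryTheory CategoryTheory.Limits AlgebraicGeometry Groth.Agent.QCohLib

namespace ZClosLib

variable {X : Scheme.{u}}

/-- Restriction to an open subscheme preserves finite limits. -/
theorem preservesFiniteLimits_restrict (U : X.Opens) :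
    PreservesFiniteLimits (Scheme.Modules.restrictFunctor U.ι) := by
  let G := U.ι.opensFunctor.sheafPushforwardContinuous AddCommGrpCat.{u}
    (Opens.grothendieckTopology (U : Scheme.{u})) (Opens.grothendieckTopology X)
  haveI : PreservesFiniteLimits G := by
    haveI : PreservesFiniteLimits (G ⋙ sheafToPresheaf _ _) :=
      inferInstanceAs (PreservesFiniteLimits (sheafToPresheaf _ AddCommGrpCat.{u} ⋙
        (Functor.whiskeringLeft _ _ AddCommGrpCat.{u}).obj U.ι.opensFunctor.op))
    exact preservesFiniteLimits_of_reflects_of_preserves G (sheafToPresheaf _ _)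
  haveI : PreservesFiniteLimits
      (Scheme.Modules.restrictFunctor U.ι ⋙ toAbF (U : Scheme.{u})) :=
    inferInstanceAs (PreservesFiniteLimits (toAbF X ⋙ G))
  haveI : (toAbF (U : Scheme.{u})).ReflectsIsomorphisms :=
    inferInstanceAs (SheafOfModules.toSheaf.{u} (U : Scheme.{u}).ringCatSheaf).ReflectsIsomorphisms
  exact preservesFiniteLimits_of_reflects_of_preserves _ (toAbF (U : Scheme.{u}))

theorem preservesFiniteLimits_resPush (U : X.Opens) : PreservesFiniteLimits (ZClos.resPush U) := by
  haveI := preservesFiniteLimits_restrict U
  haveI : PreservesFiniteLimits (Scheme.Modules.pushforward U.ι) := by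
    haveI : (Scheme.Modules.pushforward U.ι).IsRightAdjoint :=
      ⟨_, ⟨Scheme.Modules.restrictAdjunction U.ι⟩⟩
    exact ⟨fun J _ _ => inferInstance⟩
  exact comp_preservesFiniteLimits _ _

theorem preservesFiniteLimits_H0 (Z : Set X) : PreservesFiniteLimits (ZClos.H0 (X := X) Z) := by
  haveI : IsGrothendieckAbelian.{u} X.Modules := Groth.Agent.S0484.result _ X.ringCatSheaf
  haveI : HasExactColimitsOfShape (ZClos.Cl Z) X.Modules := inferInstance
  haveI : PreservesFiniteLimits (ZClos.diagram (X := X) Z) := ⟨fun K _ _ => by
    refine preservesLimitsOfShape_of_evaluation _ K fun T => ?_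
    haveI := preservesFiniteLimits_resPush T.U
    change PreservesLimitsOfShape K (ZClos.resPush T.U)
    infer_instance⟩
  exact comp_preservesFiniteLimits (ZClos.diagram Z) colim

end ZClosLib
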