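import Groth.Agent.ZClosLib.Formal
import Groth.Agent.QCohLib.Push
import Groth.Agent.PullbackMod.Sections

/-! The Z-closure of a quasi-coherent module is quasi-coherent. -/

set_option autoImplicit false
set_option backward.isDefEq.respectTransparency false
set_option linter.style.haveILetI false

universe u

open CategoryTheory CategoryTheory.Limits AlgebraicGeometry Opposite TopologicalSpace
open Groth.Agent.QCohLib Groth.Agent.CohBase

namespace ZClosLib

variable {X : Scheme.{u}} {Z : Set X} [IsLocallyNoetherian X]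

theorem isQCoh_resPush (F : X.Modules) [Coh.IsQCoh F] (U : X.Opens) :
    Coh.IsQCoh ((ZClos.resPush U).obj F) := by
  haveI : Coh.IsQCoh (F.restrict U.ι) :=
    (SheafOfModules.isQuasicoherent U.toScheme.ringCatSheaf).prop_of_iso
      ((Scheme.Modules.restrictFunctorIsoPullback U.ι).app F).symm
      (Groth.Agent.PullbackMod.isQCoh_pullback U.ι F)
  exact Groth.Agent.QCohLib.isQCoh_pushforward (F.restrict U.ι) U.ι

theorem isQCoh_H0 (F : X.Modules) [Coh.IsQCoh F] : Coh.IsQCoh ((ZClos.H0 Z).obj F) := by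
  haveI : ∀ T : ZClos.Cl Z, Coh.IsQCoh (((ZClos.diagram Z).obj F).obj T) :=
    fun T => isQCoh_resPush F T.U
  refine (isQCoh_iff _).2 fun W hW => ⟨fun f t => ?_, fun f e he => ?_⟩
  · obtain ⟨T, s, rfl⟩ := exists_inc F (hW.basicOpen f).isCompact t
    obtain ⟨n, s', hs'⟩ := (locAt (((ZClos.diagram Z).obj F).obj T) hW).extend f s
    refine ⟨n, (colimit.ι ((ZClos.diagram Z).obj F) T).app W s', ?_⟩
    refine (app_res _ (X.basicOpen_le f) s').symm.trans ?_
    rw [hs']
    exact app_sc (colimit.ι ((ZClos.diagram Z).obj F) T) _ _ _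
  · obtain ⟨T, s, hs⟩ := exists_ι_eq ((ZClos.diagram Z).obj F) hW.isCompact e
    subst hs
    obtain ⟨T', hT, h0⟩ := exists_eq_zero ((ZClos.diagram Z).obj F) (hW.basicOpen f).isCompact T
      ((((ZClos.diagram Z).obj F).obj T).presheaf.map (homOfLE (X.basicOpen_le f)).op s)
      ((app_res _ (X.basicOpen_le f) s).trans he)
    rw [app_res] at h0
    obtain ⟨n, hn⟩ := (locAt (((ZClos.diagram Z).obj F).obj T') hW).kill f _ h0
    refine ⟨n, ?_⟩
    rw [← w_app ((ZClos.diagram Z).obj F) hT W s]
    refine (app_sc (colimit.ι ((ZClos.diagram Z).obj F) T') _ _ _).symm.trans ?_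
    rw [hn, map_zero]

end ZClosLib
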