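import Groth.Agent.ZClosLib.Closure

/-! Z-pure and Z-closed modules. -/

set_option autoImplicit false
set_option backward.isDefEq.respectTransparency false
set_option linter.style.haveILetI false

universe u

open CategoryTheory CategoryTheory.Limits AlgebraicGeometry Opposite TopologicalSpace

namespace ZClosLib

variable {X : Scheme.{u}} {Z : Set X} {F : X.Modules}

theorem toDiagram_app (Z : Set X) (F : X.Modules) (T : ZClos.Cl Z) (V : X.Opens) (s : Γ(F, V)) :
    (ZClos.toDiagram Z F T).app V s = F.presheaf.map (homOfLE (IV_le_right T.U V)).op s := rfl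

variable [IsLocallyNoetherian X]

theorem isZPure_iff : ZClos.IsZPure Z F ↔ ∀ T : ZClos.Cl Z, Mono (ZClos.toDiagram Z F T) := by
  constructor
  · intro h T
    have h' : Mono (ZClos.toDiagram Z F T ≫ colimit.ι ((ZClos.diagram Z).obj F) T) :=
      ZClos.rhoApp_eq Z F T ▸ h
    exact mono_of_mono _ (colimit.ι ((ZClos.diagram Z).obj F) T)
  · intro h
    refine mono_of_injective _ (injective_of_affine _ fun V hV => ?_)
    rw [injective_iff_map_eq_zero]
    intro s hs
    rw [rho_eq_inc F ⊥] at hs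
    obtain ⟨T', hT, hres⟩ := inc_eq_zero F hV.isCompact ⊥ _ hs
    rw [res_res] at hres
    haveI := h T'
    exact injective_of_mono (ZClos.toDiagram Z F T') V (by rw [toDiagram_app, hres, map_zero])

omit [IsLocallyNoetherian X] in
theorem res_injective (h : ∀ T : ZClos.Cl Z, Mono (ZClos.toDiagram Z F T)) (T : ZClos.Cl Z)
    (V : X.Opens) : Function.Injective (F.presheaf.map (homOfLE (IV_le_right T.U V)).op) := by
  haveI := h T
  exact injective_of_mono (ZClos.toDiagram Z F T) V

theorem isZPure_iff_sections :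
    ZClos.IsZPure Z F ↔ ∀ (T : ZClos.Cl Z) (V : X.Opens), IsCompact (V : Set X) →
      Function.Injective (F.presheaf.map (homOfLE (inf_le_left : V ⊓ T.U ≤ V)).op) := by
  rw [isZPure_iff]
  exact ⟨fun h T V _ => (toDiagram_injective_iff F T.U V).1 (res_injective h T V),
    fun h T => mono_of_injective _ (injective_of_affine _
      fun V hV => (toDiagram_injective_iff F T.U V).2 (h T V hV.isCompact))⟩

theorem isZClosed_iff : ZClos.IsZClosed Z F ↔ ∀ T : ZClos.Cl Z, IsIso (ZClos.toDiagram Z F T) := by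
  constructor
  · intro h T
    haveI : IsIso (ZClos.rhoApp Z F) := h
    have hp : ∀ T : ZClos.Cl Z, Mono (ZClos.toDiagram Z F T) :=
      isZPure_iff.1 (inferInstance : Mono (ZClos.rhoApp Z F))
    refine isIso_of_bijective_affine _ fun V hV => ⟨res_injective hp T V, fun (s : Γ(F, IV T.U V)) => ?_⟩
    obtain ⟨t, ht⟩ := (bijective_of_isIso (ZClos.rhoApp Z F) V).2 (inc F Z T V s)
    rw [rho_eq_inc F T] at ht
    refine ⟨t, ?_⟩
    obtain ⟨T', hT, hres⟩ := inc_eq_zero F hV.isCompact T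
      (F.presheaf.map (homOfLE (IV_le_right T.U V)).op t - s) (by rw [map_sub, ht, sub_self])
    let O := IV T.U V
    have h1 : IV T'.U O ≤ IV T'.U V := IV_mono le_rfl (IV_le_right T.U V)
    have h2 := congrArg (F.presheaf.map (homOfLE h1).op) hres
    rw [res_res, map_zero] at h2
    have h3 := res_injective hp T' O (h2.trans (map_zero _).symm)
    exact (toDiagram_app Z F T V t).trans (sub_eq_zero.1 h3)
  · intro h
    have hp : ZClos.IsZPure Z F := isZPure_iff.2 fun T => inferInstance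
    refine isIso_of_bijective_affine _ fun V hV => ⟨?_, fun e => ?_⟩
    · haveI : Mono (ZClos.rhoApp Z F) := hp
      exact injective_of_mono _ V
    · obtain ⟨T, s, rfl⟩ := exists_inc F hV.isCompact e
      obtain ⟨t, rfl⟩ := (bijective_of_isIso (ZClos.toDiagram Z F T) V).2 s
      exact ⟨t, rho_eq_inc F T V t⟩

theorem res_bijective_of_closed (h : ZClos.IsZClosed Z F) (T : ZClos.Cl Z) (V : X.Opens) :
    Function.Bijective (F.presheaf.map (homOfLE (IV_le_right T.U V)).op) := by
  haveI := isZClosed_iff.1 h T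
  exact bijective_of_isIso (ZClos.toDiagram Z F T) V

theorem isZClosed_iff_sections :
    ZClos.IsZClosed Z F ↔ ∀ (T : ZClos.Cl Z) (V : X.Opens), IsCompact (V : Set X) →
      Function.Bijective (F.presheaf.map (homOfLE (inf_le_left : V ⊓ T.U ≤ V)).op) :=
  ⟨fun h T V _ => (toDiagram_bijective_iff F T.U V).1 (res_bijective_of_closed h T V),
    fun h => isZClosed_iff.2 fun T => isIso_of_bijective_affine _
      fun V hV => (toDiagram_bijective_iff F T.U V).2 (h T V hV.isCompact)⟩

theorem mono_subset {Z' : Set X} (h : Z' ⊆ Z) :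
    (ZClos.IsZPure Z F → ZClos.IsZPure Z' F) ∧ (ZClos.IsZClosed Z F → ZClos.IsZClosed Z' F) :=
  ⟨fun hp => isZPure_iff.2 fun T => isZPure_iff.1 hp ⟨T.1, T.2.trans h⟩,
    fun hc => isZClosed_iff.2 fun T => isZClosed_iff.1 hc ⟨T.1, T.2.trans h⟩⟩

omit [IsLocallyNoetherian X] in
theorem res_inc (T : ZClos.Cl Z) (V : X.Opens) (s : Γ(F, IV T.U V)) :
    ((ZClos.H0 Z).obj F).presheaf.map (homOfLE (IV_le_right T.U V)).op (inc F Z T V s) =
      (ZClos.rhoApp Z F).app (IV T.U V) s := by
  rw [← inc_res, rho_eq_inc F T]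

theorem rho_stalk_bijective {x : X} (hx : x ∉ Z) :
    Function.Bijective ((stalkF x).map (ZClos.rhoApp Z F)) := by
  constructor
  · rw [injective_iff_map_eq_zero]
    intro a ha
    obtain ⟨U, hxU, s, rfl⟩ := TopCat.Presheaf.exists_germ_eq F.presheaf a
    rw [map_germ] at ha
    obtain ⟨W, hxW, iW, iW', he⟩ :=
      TopCat.Presheaf.germ_eq _ x hxU hxU _ 0 (ha.trans (map_zero _).symm)
    have he' : ((ZClos.H0 Z).obj F).presheaf.map (homOfLE iW.le).op
        ((ZClos.rhoApp Z F).app U s) = 0 := he.trans (map_zero _)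
    obtain ⟨W₁, hW₁, hxW₁, hle : W₁ ≤ (W : X.Opens)⟩ := exists_affine_le W hxW
    have hle' : W₁ ≤ U := hle.trans iW.le
    have h0 : (ZClos.rhoApp Z F).app W₁ (F.presheaf.map (homOfLE hle').op s) = 0 := by
      rw [app_res, ← res_res _ hle iW.le, he', map_zero]
    rw [rho_eq_inc F ⊥] at h0
    obtain ⟨T', hT, hres⟩ := inc_eq_zero F hW₁.isCompact ⊥ _ h0
    rw [res_res, res_res] at hres
    have hxI : x ∈ IV T'.U W₁ := mem_IV.2 ⟨fun h => hx (T'.2 h), hxW₁⟩
    rw [← germ_res' F ((IV_mono le_rfl hle').trans (IV_le_right T'.U U)) x hxI s, hres, map_zero]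
  · intro a
    obtain ⟨U, hxU, e, rfl⟩ := TopCat.Presheaf.exists_germ_eq ((ZClos.H0 Z).obj F).presheaf a
    obtain ⟨W, hW, hxW, hWU⟩ := exists_affine_le U hxU
    obtain ⟨T, s, hs⟩ :=
      exists_inc F hW.isCompact (((ZClos.H0 Z).obj F).presheaf.map (homOfLE hWU).op e)
    have hxI : x ∈ IV T.U W := mem_IV.2 ⟨fun h => hx (T.2 h), hxW⟩
    refine ⟨F.presheaf.germ _ x hxI s, ?_⟩
    rw [map_germ, ← res_inc, hs, germ_res', germ_res']

/-- Sections with vanishing germs outside `Z` die in the closure. -/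
theorem inc_eq_zero_of_germ (hZ : StableUnderSpecialization Z) (T : ZClos.Cl Z) (V : X.Opens)
    (s : Γ(F, IV T.U V))
    (h : ∀ x (hx : x ∈ IV T.U V), x ∉ Z → F.presheaf.germ (IV T.U V) x hx s = 0) :
    inc F Z T V s = 0 := by
  let S : Set X := {x | ∃ hx : x ∈ IV T.U V, F.presheaf.germ (IV T.U V) x hx s ≠ 0}
  have hSO : S ⊆ (IV T.U V : Set X) := fun x hx => hx.1
  have hSZ : S ⊆ Z := fun x ⟨hx, hne⟩ => by_contra fun hxZ => hne (h x hx hxZ)
  have hcl : closure S ∩ (IV T.U V : Set X) ⊆ S := by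
    rintro x ⟨hcx, hx⟩
    refine ⟨hx, fun h0 => ?_⟩
    obtain ⟨W, hxW, iW, iW', he⟩ :=
      TopCat.Presheaf.germ_eq _ x hx hx s 0 (h0.trans (map_zero _).symm)
    obtain ⟨y, hyW, hy, hne⟩ := mem_closure_iff.1 hcx W W.2 hxW
    apply hne
    have he' : F.presheaf.map (homOfLE iW.le).op s = 0 := he.trans (map_zero _)
    rw [← germ_res' F iW.le y hyW s, he', map_zero]
  refine inc_eq_zero_of_res F (T' := clOf hZ _ hSO hcl hSZ) V s (section_ext _ _ _ _ fun x hx => ?_)
  rw [germ_res', map_zero]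
  by_contra hne
  exact notMem_of_mem_clOf hZ _ hSO hcl hSZ (mem_IV.1 hx).1.2 ⟨_, hne⟩

theorem isZero_H0_iff (hZ : StableUnderSpecialization Z) :
    IsZero ((ZClos.H0 Z).obj F) ↔ ∀ x : X, x ∉ Z → Subsingleton (F.presheaf.stalk x) := by
  constructor
  · intro h x hx
    have hsub : Subsingleton (((ZClos.H0 Z).obj F).presheaf.stalk x) := by
      refine subsingleton_of_forall_eq 0 fun a => ?_
      obtain ⟨U, hxU, e, rfl⟩ := TopCat.Presheaf.exists_germ_eq ((ZClos.H0 Z).obj F).presheaf a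
      have : e = 0 := congr($(h.eq_of_src (𝟙 _) 0).app U e)
      rw [this, map_zero]
    exact @Function.Injective.subsingleton _ _ _ (rho_stalk_bijective (F := F) hx).1 hsub
  · intro h
    rw [IsZero.iff_id_eq_zero]
    refine hom_ext_app fun V e => ?_
    have key : ∀ W : X.Opens, IsAffineOpen W → ∀ a : Γ((ZClos.H0 Z).obj F, W), a = 0 := by
      intro W hW a
      obtain ⟨T, s, rfl⟩ := exists_inc F hW.isCompact a
      refine inc_eq_zero_of_germ hZ T W s fun x hx hxZ => ?_
      haveI := h x hxZ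
      exact Subsingleton.elim _ _
    change e = 0
    refine section_ext _ _ _ _ fun x hx => ?_
    obtain ⟨W, hW, hxW, hWV⟩ := exists_affine_le V hx
    rw [← germ_res' _ hWV x hxW e,
      key W hW (((ZClos.H0 Z).obj F).presheaf.map (homOfLE hWV).op e), map_zero, map_zero]

theorem isZClosed_H0 : ZClos.IsZClosed Z ((ZClos.H0 Z).obj F) := by
  rw [isZClosed_iff_sections]
  intro T' V hV
  have hV' : IsCompact ((V ⊓ T'.U : X.Opens) : Set X) := inf_comm V T'.U ▸ isCompact_inf hV T'.U
  have hle : ∀ T : ZClos.Cl Z, IV (T ⊔ T').U V ≤ IV T.U (V ⊓ T'.U) := fun T x hx => by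
    obtain ⟨h1, h2⟩ := mem_IV.1 hx
    exact mem_IV.2 ⟨ZClos.Cl.U_anti le_sup_left h1, h2, ZClos.Cl.U_anti le_sup_right h1⟩
  constructor
  · rw [injective_iff_map_eq_zero]
    intro e he
    obtain ⟨T, s, rfl⟩ := exists_inc F hV e
    rw [← inc_res] at he
    obtain ⟨T'', hT, hres⟩ := inc_eq_zero F hV' T _ he
    rw [res_res] at hres
    rw [← inc_trans F (hT.trans le_sup_left : T ≤ T'' ⊔ T') V s]
    have h2 := congrArg (F.presheaf.map (homOfLE (hle T'')).op) hres
    rw [res_res, map_zero] at h2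
    rw [h2, map_zero]
  · intro e
    obtain ⟨T, s, rfl⟩ := exists_inc F hV' e
    refine ⟨inc F Z (T ⊔ T') V (F.presheaf.map (homOfLE (hle T)).op s), ?_⟩
    rw [← inc_res, res_res]
    exact inc_trans F (le_sup_left : T ≤ T ⊔ T') _ s

end ZClosLib
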