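import Groth.Agent.ZClosLib.Formal

/-! Universal property of the Z-closure. -/

set_option autoImplicit false
set_option backward.isDefEq.respectTransparency false
set_option linter.style.haveILetI false

universe u

open CategoryTheory CategoryTheory.Limits AlgebraicGeometry Opposite TopologicalSpace

namespace ZClosLib

variable {X : Scheme.{u}} {Z : Set X} {F F' : X.Modules}

theorem map_unit_eq (U : X.Opens) (M : X.Modules) :
    (ZClos.resPush U).map ((ZClos.resPushUnit U).app M) =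
      (ZClos.resPushUnit U).app ((ZClos.resPush U).obj M) := by
  haveI := ZClos.isIso_unit_resPush (le_refl U) M
  have h := ZClos.resPushMapApp_id (le_refl U) M
  rw [ZClos.resPushMapApp, IsIso.comp_inv_eq, Category.id_comp] at h
  exact h

variable [IsLocallyNoetherian X]

theorem existsUnique_lift (hF' : ZClos.IsZClosed Z F') (u : F ⟶ F') :
    ∃! v : (ZClos.H0 Z).obj F ⟶ F', ZClos.rhoApp Z F ≫ v = u := by
  haveI : ∀ T : ZClos.Cl Z, IsIso ((ZClos.resPushUnit T.U).app F') := isZClosed_iff.1 hF'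
  let g : ∀ T : ZClos.Cl Z, ((ZClos.diagram Z).obj F).obj T ⟶ F' := fun T =>
    (ZClos.resPush T.U).map u ≫ inv ((ZClos.resPushUnit T.U).app F')
  let c : Cocone ((ZClos.diagram Z).obj F) :=
    { pt := F'
      ι :=
        { app := g
          naturality := fun T T' f => by
            change ZClos.resPushMapApp (ZClos.Cl.U_anti f.le) F ≫ g T' = g T ≫ 𝟙 F'
            rw [Category.comp_id]
            change ZClos.resPushMapApp (ZClos.Cl.U_anti f.le) F ≫ (ZClos.resPush T'.U).map u ≫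
              inv ((ZClos.resPushUnit T'.U).app F') = (ZClos.resPush T.U).map u ≫
              inv ((ZClos.resPushUnit T.U).app F')
            rw [← Category.assoc, ← ZClos.resPushMapApp_naturality, Category.assoc]
            congr 1
            rw [IsIso.comp_inv_eq, ← ZClos.resPushUnit_resPushMapApp (ZClos.Cl.U_anti f.le) F',
              IsIso.inv_hom_id_assoc] } }
  refine ⟨colimit.desc _ c, ?_, fun v hv => colimit.hom_ext fun T => ?_⟩
  · change ZClos.rhoApp Z F ≫ colimit.desc _ c = u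
    rw [ZClos.rhoApp_eq Z F ⊥]
    refine (Category.assoc _ _ _).trans ?_
    erw [colimit.ι_desc]
    change ZClos.toDiagram Z F ⊥ ≫ g ⊥ = u
    dsimp only [g]
    rw [← Category.assoc, IsIso.comp_inv_eq]
    exact ((ZClos.resPushUnit (⊥ : ZClos.Cl Z).U).naturality u).symm
  · erw [colimit.ι_desc]
    change colimit.ι ((ZClos.diagram Z).obj F) T ≫ v =
      (ZClos.resPush T.U).map u ≫ inv ((ZClos.resPushUnit T.U).app F')
    have h1 : (ZClos.resPushUnit T.U).app F ≫ colimit.ι ((ZClos.diagram Z).obj F) T ≫ v = u := by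
      rw [← Category.assoc]
      exact (congrArg (· ≫ v) (ZClos.rhoApp_eq Z F T).symm).trans hv
    rw [IsIso.eq_comp_inv]
    have h2 := (ZClos.resPush T.U).congr_map h1
    rw [Functor.map_comp, map_unit_eq] at h2
    exact ((ZClos.resPushUnit T.U).naturality (colimit.ι ((ZClos.diagram Z).obj F) T ≫ v)).trans h2

theorem isIso_lift (hZ : StableUnderSpecialization Z) (hF' : ZClos.IsZClosed Z F') (u : F ⟶ F')
    (hu : ∀ x : X, x ∉ Z → Function.Bijective ((stalkF x).map u))
    (v : (ZClos.H0 Z).obj F ⟶ F') (hv : ZClos.rhoApp Z F ≫ v = u) : IsIso v := by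
  have hvr : ∀ (V : X.Opens) (s : Γ(F, V)), v.app V ((ZClos.rhoApp Z F).app V s) = u.app V s :=
    fun V s => congr($(hv).app V s)
  have hinj : ∀ W : X.Opens, IsAffineOpen W → Function.Injective (v.app W) := by
    intro W hW
    rw [injective_iff_map_eq_zero]
    intro e he
    obtain ⟨T, s, rfl⟩ := exists_inc F hW.isCompact e
    have hus : u.app (IV T.U W) s = 0 := by
      rw [← hvr, ← res_inc, app_res, he, map_zero]
    refine inc_eq_zero_of_germ hZ T W s fun x hx hxZ => (hu x hxZ).1 ?_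
    rw [map_germ, hus, map_zero, map_zero]
  refine isIso_of_bijective_affine v fun W hW => ⟨hinj W hW, fun t => ?_⟩
  let good : X → Prop := fun x => ∃ (W' : X.Opens) (h : W' ≤ W), x ∈ W' ∧
    ∃ a, v.app W' a = F'.presheaf.map (homOfLE h).op t
  let S : Set X := {x | x ∈ W ∧ ¬ good x}
  have hSO : S ⊆ (W : Set X) := fun x hx => hx.1
  have hcl : closure S ∩ (W : Set X) ⊆ S := by
    rintro x ⟨hcx, hx⟩
    refine ⟨hx, fun ⟨W', h, hxW', a⟩ => ?_⟩
    obtain ⟨y, hyW, hy, hne⟩ := mem_closure_iff.1 hcx W' W'.2 hxW'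
    exact hne ⟨W', h, hyW, a⟩
  have hSZ : S ⊆ Z := fun x ⟨hx, hne⟩ => by_contra fun hxZ => hne <| by
    obtain ⟨a, ha⟩ := (hu x hxZ).2 (F'.presheaf.germ W x hx t)
    obtain ⟨U, hxU, s, rfl⟩ := TopCat.Presheaf.exists_germ_eq F.presheaf a
    rw [map_germ] at ha
    obtain ⟨W', hxW', iU, iW, he⟩ := TopCat.Presheaf.germ_eq _ x hxU hx _ _ ha
    refine ⟨W', iW.le, hxW', (ZClos.rhoApp Z F).app W' (F.presheaf.map (homOfLE iU.le).op s), ?_⟩
    rw [hvr, app_res]
    exact he
  let T0 := clOf hZ W hSO hcl hSZ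
  let W1 := IV T0.U W
  have hgood : ∀ x : W1, ∃ (W' : X.Opens) (_ : W' ≤ W1) (h : W' ≤ W), x.1 ∈ W' ∧
      ∃ a, v.app W' a = F'.presheaf.map (homOfLE h).op t := fun x => by
    obtain ⟨hx0, hxW⟩ := mem_IV.1 x.2
    have hx : good x.1 := by_contra fun h => notMem_of_mem_clOf hZ W hSO hcl hSZ hx0 ⟨hxW, h⟩
    obtain ⟨W', h, hxW', a, ha⟩ := hx
    refine ⟨W' ⊓ W1, inf_le_right, inf_le_left.trans h, ⟨hxW', x.2⟩,
      ((ZClos.H0 Z).obj F).presheaf.map (homOfLE inf_le_left).op a, ?_⟩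
    rw [app_res, ha, res_res]
  choose W' hW'1 hW' hxW' a ha using hgood
  have hcompat : TopCat.Presheaf.IsCompatible
      ((Groth.Agent.QCohLib.toAbF X).obj ((ZClos.H0 Z).obj F)).1 W' a := by
    intro x y
    change ((ZClos.H0 Z).obj F).presheaf.map (homOfLE (inf_le_left : W' x ⊓ W' y ≤ W' x)).op (a x) =
      ((ZClos.H0 Z).obj F).presheaf.map (homOfLE (inf_le_right : W' x ⊓ W' y ≤ W' y)).op (a y)
    apply injective_of_affine v hinj
    rw [app_res, app_res, ha, ha, res_res, res_res]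
  obtain ⟨e1, he1, -⟩ := TopCat.Sheaf.existsUnique_gluing'
    ((Groth.Agent.QCohLib.toAbF X).obj ((ZClos.H0 Z).obj F)) W' W1 (fun x => homOfLE (hW'1 x))
    (fun x hx => Opens.mem_iSup.2 ⟨⟨x, hx⟩, hxW' _⟩) a hcompat
  obtain ⟨e, he⟩ := (res_bijective_of_closed (isZClosed_H0 (Z := Z) (F := F)) T0 W).2 e1
  refine ⟨e, (res_bijective_of_closed hF' T0 W).1 ?_⟩
  rw [← app_res, he]
  refine section_ext F' W1 _ _ fun x hx => ?_
  have h3 : ((ZClos.H0 Z).obj F).presheaf.map (homOfLE (hW'1 ⟨x, hx⟩)).op e1 = a ⟨x, hx⟩ := he1 ⟨x, hx⟩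
  have h4 : F'.presheaf.map (homOfLE (hW'1 ⟨x, hx⟩)).op (v.app W1 e1) =
      F'.presheaf.map (homOfLE (hW'1 ⟨x, hx⟩)).op
        (F'.presheaf.map (homOfLE (IV_le_right T0.U W)).op t) := by
    rw [← app_res, h3, ha, res_res]
  have h5 := congrArg (F'.presheaf.germ (W' ⟨x, hx⟩) x (hxW' _)) h4
  rw [germ_res', germ_res' F' (hW'1 ⟨x, hx⟩) x (hxW' _)] at h5
  exact h5

end ZClosLib
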