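import Groth.Agent.ZClosLib.Basic
import Mathlib.Topology.NoetherianSpace
import Mathlib.Topology.Sober

/-! Closures of small sets inside a specialization-stable set. -/

set_option autoImplicit false
set_option backward.isDefEq.respectTransparency false
set_option linter.style.haveILetI false

universe u

open AlgebraicGeometry TopologicalSpace

namespace ZClosLib

/-- In a noetherian sober space, every point of the closure of a relatively closed subset of an open
is a specialization of a point of that subset. -/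
theorem exists_generization {α : Type*} [TopologicalSpace α] [NoetherianSpace α] [QuasiSober α]
    {O S : Set α} (hO : IsOpen O) (hSO : S ⊆ O) (hcl : closure S ∩ O ⊆ S) {x : α}
    (hx : x ∈ closure S) : ∃ y ∈ S, y ⤳ x := by
  haveI : QuasiSober (closure S) := isClosed_closure.isClosedEmbedding_subtypeVal.quasiSober
  let C : Set (closure S) := irreducibleComponent (⟨x, hx⟩ : closure S)
  obtain ⟨o, ho, hone, hoC⟩ := NoetherianSpace.exists_isOpen_nonempty_subset_irreducibleComponent C
    (irreducibleComponent_mem_irreducibleComponents _)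
  obtain ⟨o', ho', rfl⟩ := isOpen_induced_iff.1 ho
  obtain ⟨⟨z, hz⟩, hzo⟩ := hone
  obtain ⟨w, hwo, hwS⟩ := mem_closure_iff.1 hz o' ho' hzo
  have hC : IsIrreducible C := isIrreducible_irreducibleComponent
  have hgen := hC.isGenericPoint_genericPoint isClosed_irreducibleComponent
  have hmem : hC.genericPoint ∈ (Subtype.val ⁻¹' O : Set (closure S)) :=
    (hgen.mem_open_set_iff (hO.preimage continuous_subtype_val)).2
      ⟨⟨w, subset_closure hwS⟩, hoC hwo, hSO hwS⟩
  exact ⟨hC.genericPoint.1, hcl ⟨hC.genericPoint.2, hmem⟩,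
    (hgen.specializes mem_irreducibleComponent).map continuous_subtype_val⟩

variable {X : Scheme.{u}} [IsLocallyNoetherian X]

theorem closure_subset {Z : Set X} (hZ : StableUnderSpecialization Z) {S : Set X} (O : X.Opens)
    (hSO : S ⊆ (O : Set X)) (hcl : closure S ∩ (O : Set X) ⊆ S) (hSZ : S ⊆ Z) : closure S ⊆ Z := by
  intro x hx
  obtain ⟨W, hW, hxW, -⟩ := exists_affine_le ⊤ (Set.mem_univ x : x ∈ (⊤ : X.Opens))
  haveI : IsNoetherianRing Γ(X, W) := IsLocallyNoetherian.component_noetherian ⟨W, hW⟩
  haveI : NoetherianSpace (W : Set X) := noetherianSpace_of_isAffineOpen _ hW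
  haveI : QuasiSober (W : Set X) := W.2.isOpenEmbedding_subtypeVal.quasiSober
  let S' : Set (W : Set X) := Subtype.val ⁻¹' S
  have hcl' : closure S' = Subtype.val ⁻¹' closure S :=
    (W.2.isOpenMap_subtype_val.preimage_closure_eq_closure_preimage continuous_subtype_val S).symm
  obtain ⟨y, hy, hyx⟩ := exists_generization (S := S') (O := Subtype.val ⁻¹' (O : Set X))
    (O.2.preimage continuous_subtype_val) (fun z hz => hSO hz)
    (fun z hz => hcl ⟨(hcl'.subset hz.1 : z.1 ∈ closure S), hz.2⟩)
    (x := ⟨x, hxW⟩) (hcl'.symm.subset hx)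
  exact hZ (hyx.map continuous_subtype_val) (hSZ hy)

/-- The closure of a relatively closed subset of an open inside `Z` as an index. -/
noncomputable def clOf {Z : Set X} (hZ : StableUnderSpecialization Z) {S : Set X} (O : X.Opens)
    (hSO : S ⊆ (O : Set X)) (hcl : closure S ∩ (O : Set X) ⊆ S) (hSZ : S ⊆ Z) : ZClos.Cl Z :=
  ⟨⟨closure S, isClosed_closure⟩, closure_subset hZ O hSO hcl hSZ⟩

theorem notMem_of_mem_clOf {Z : Set X} (hZ : StableUnderSpecialization Z) {S : Set X} (O : X.Opens)
    (hSO : S ⊆ (O : Set X)) (hcl : closure S ∩ (O : Set X) ⊆ S) (hSZ : S ⊆ Z) {x : X}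
    (hx : x ∈ (clOf hZ O hSO hcl hSZ).U) : x ∉ S :=
  fun h => hx (subset_closure h)

end ZClosLib
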