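import Groth.Agent.ZClosLib.FlatSec
import Groth.Agent.ZClosLib.Universal
import Groth.Agent.ZClosLib.QCoh
import Groth.Agent.ZClosLib.Closure
import Groth.Agent.PullbackMod.Hom

/-!
# The Z-closure commutes with flat inverse images
-/

set_option autoImplicit false
set_option backward.isDefEq.respectTransparency false
set_option linter.style.haveILetI false

universe u

open CategoryTheory CategoryTheory.Limits AlgebraicGeometry Opposite TopologicalSpace
open scoped TensorProduct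

namespace ZClosLib

variable {X X' : Scheme.{u}}

/-- A map bijective on a basis of small opens is an isomorphism. -/
theorem isIso_of_bijective_small {M N : X.Modules} (φ : M ⟶ N) (P : X.Opens → Prop)
    (hP : ∀ (x : X) (U : X.Opens), x ∈ U → ∃ W ≤ U, x ∈ W ∧ P W)
    (h : ∀ W, P W → Function.Bijective (φ.app W)) : IsIso φ := by
  refine isIso_of_stalk φ fun x => ⟨?_, fun a => ?_⟩
  · rw [injective_iff_map_eq_zero]
    intro a ha
    obtain ⟨U, hxU, s, rfl⟩ := TopCat.Presheaf.exists_germ_eq M.presheaf a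
    rw [map_germ, ← map_zero (N.presheaf.germ U x hxU).hom] at ha
    obtain ⟨U', hxU', i₁, i₂, he⟩ := TopCat.Presheaf.germ_eq _ x hxU hxU _ _ ha
    obtain ⟨W, hWU', hxW, hW⟩ := hP x U' hxU'
    rw [← germ_res' M (hWU'.trans i₁.le) x hxW s]
    have h0 : M.presheaf.map (homOfLE (hWU'.trans i₁.le)).op s = 0 := (h W hW).1 (by
      rw [app_res, map_zero, ← res_res N hWU' i₁.le]
      change N.presheaf.map _ (N.presheaf.map i₁.op _) = 0
      rw [he, map_zero, map_zero])
    rw [h0, map_zero]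
  · obtain ⟨U, hxU, s, rfl⟩ := TopCat.Presheaf.exists_germ_eq N.presheaf a
    obtain ⟨W, hWU, hxW, hW⟩ := hP x U hxU
    obtain ⟨t, ht⟩ := (h W hW).2 (N.presheaf.map (homOfLE hWU).op s)
    exact ⟨M.presheaf.germ W x hxW t, by rw [map_germ, ht, germ_res']⟩

variable [IsLocallyNoetherian X] [IsLocallyNoetherian X'] (f : X' ⟶ X) {Z : Set X}

omit [IsLocallyNoetherian X] in
/-- Locally on the source, a closed subset of the preimage lies over a closed subset of `Z`. -/
theorem exists_cl (hZ : StableUnderSpecialization Z) (T' : ZClos.Cl (f.base ⁻¹' Z)) {W : X'.Opens}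
    (hW : IsAffineOpen W) :
    ∃ T : ZClos.Cl Z, ∀ x ∈ W, x ∈ (T'.1 : Set X') → f x ∈ (T.1 : Set X) := by
  haveI : IsNoetherianRing Γ(X', W) := IsLocallyNoetherian.component_noetherian ⟨W, hW⟩
  haveI : NoetherianSpace ↥(W : Set X') := noetherianSpace_of_isAffineOpen _ hW
  haveI : QuasiSober ↥(W : Set X') := W.2.isOpenEmbedding_subtypeVal.quasiSober
  obtain ⟨S, hS, hSc, hSi, hSu⟩ := NoetherianSpace.exists_finite_set_isClosed_irreducible
    (T'.1.2.preimage (continuous_subtype_val (p := fun x => x ∈ (W : Set X'))))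
  haveI : Finite S := hS
  let η : S → X' := fun C => ((hSi C.1 C.2).genericPoint : ↥(W : Set X')).1
  have hη : ∀ C : S, f (η C) ∈ Z := fun C => T'.2 (by
    have hg := (hSi C.1 C.2).isGenericPoint_genericPoint (hSc C.1 C.2)
    have hmem : (hSi C.1 C.2).genericPoint ∈ (⋃₀ S : Set ↥(W : Set X')) := Set.mem_sUnion.2 ⟨C.1, C.2, hg.mem⟩
    exact (Set.ext_iff.1 hSu _).2 hmem)
  refine ⟨⟨⟨⋃ C : S, closure {f (η C)}, isClosed_iUnion_of_finite fun _ => isClosed_closure⟩, ?_⟩,
    fun x hxW hx => ?_⟩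
  · intro y hy
    obtain ⟨C, hC⟩ := Set.mem_iUnion.1 hy
    exact hZ (specializes_iff_mem_closure.2 hC) (hη C)
  · have hmem : (⟨x, hxW⟩ : ↥(W : Set X')) ∈ (Subtype.val ⁻¹' (T'.1 : Set X') : Set ↥(W : Set X')) := hx
    obtain ⟨C, hC, hxC⟩ := Set.mem_sUnion.1 ((Set.ext_iff.1 hSu _).1 hmem)
    refine Set.mem_iUnion.2 ⟨⟨C, hC⟩, specializes_iff_mem_closure.1 ?_⟩
    exact (((hSi C hC).isGenericPoint_genericPoint (hSc C hC)).specializes hxC).map
      (f.continuous.comp continuous_subtype_val)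

/-- The inverse image of a closed quasi-coherent module under a flat map is closed. -/
theorem isZClosed_pullback [Flat f] (hZ : StableUnderSpecialization Z) {G : X.Modules} [Coh.IsQCoh G]
    (hG : ZClos.IsZClosed Z G) :
    ZClos.IsZClosed (f.base ⁻¹' Z) ((Scheme.Modules.pullback f).obj G) := by
  let G' := (Scheme.Modules.pullback f).obj G
  refine isZClosed_iff.2 fun T' => isIso_of_bijective_small _
    (fun W => IsAffineOpen W ∧ ∃ V : X.Opens, IsAffineOpen V ∧ W ≤ f ⁻¹ᵁ V) (fun x U hx => ?_) ?_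
  · obtain ⟨V, hV, hxV, -⟩ := exists_affine_le (⊤ : X.Opens) (Set.mem_univ (f x) : f x ∈ (⊤ : X.Opens))
    obtain ⟨W, hW, hxW, hWU⟩ := exists_affine_le (U ⊓ f ⁻¹ᵁ V) (⟨hx, hxV⟩ : x ∈ U ⊓ f ⁻¹ᵁ V)
    exact ⟨W, hWU.trans inf_le_left, hxW, hW, V, hV, hWU.trans inf_le_right⟩
  rintro W ⟨hW, V, hV, e⟩
  refine (toDiagram_bijective_iff G' T'.U W).2 ?_
  obtain ⟨T, hT⟩ := exists_cl f hZ T' hW
  have key : ∀ W₁ : X'.Opens, IsAffineOpen W₁ → W₁ ≤ f ⁻¹ᵁ V → Function.Bijective
      (G'.presheaf.map (homOfLE (inf_le_left : W₁ ⊓ f ⁻¹ᵁ (V ⊓ T.U) ≤ W₁)).op) := fun W₁ hW₁ e₁ =>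
    res_bijective_pullback f G hV hW₁ e₁ (inf_le_left : V ⊓ T.U ≤ V)
      (by rw [inf_comm]; exact isCompact_inf hV.isCompact T.U)
      (isZClosed_iff_sections.1 hG T V hV.isCompact)
  have hle : W ⊓ f ⁻¹ᵁ (V ⊓ T.U) ≤ W ⊓ T'.U := fun x hx => ⟨hx.1, fun hxT => hx.2.2 (hT x hx.1 hxT)⟩
  have hinj : Function.Injective (G'.presheaf.map (homOfLE hle).op) := fun s t hst =>
    section_ext G' _ s t fun x hx => by
      obtain ⟨W₁, hW₁, hxW₁, hW₁le⟩ := exists_affine_le (W ⊓ T'.U) hx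
      have h1 : W₁ ⊓ f ⁻¹ᵁ (V ⊓ T.U) ≤ W ⊓ f ⁻¹ᵁ (V ⊓ T.U) :=
        inf_le_inf_right _ (hW₁le.trans inf_le_left)
      have h2 : G'.presheaf.map (homOfLE hW₁le).op s = G'.presheaf.map (homOfLE hW₁le).op t :=
        (key W₁ hW₁ ((hW₁le.trans inf_le_left).trans e)).1 (by
          rw [res_res, res_res, ← res_res G' h1 hle s, ← res_res G' h1 hle t, hst])
      rw [← germ_res' G' hW₁le x hxW₁ s, ← germ_res' G' hW₁le x hxW₁ t, h2]
  have hcomp : (G'.presheaf.map (homOfLE (inf_le_left : W ⊓ f ⁻¹ᵁ (V ⊓ T.U) ≤ W)).op : Γ(G', W) → _) =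
      G'.presheaf.map (homOfLE hle).op ∘ G'.presheaf.map (homOfLE (inf_le_left : W ⊓ T'.U ≤ W)).op :=
    funext fun s => (res_res G' hle inf_le_left s).symm
  have hb := key W hW e
  rw [hcomp] at hb
  exact ⟨hb.1.of_comp, fun s => by
    obtain ⟨t, ht⟩ := hb.2 (G'.presheaf.map (homOfLE hle).op s)
    exact ⟨t, hinj ht⟩⟩

omit [IsLocallyNoetherian X] [IsLocallyNoetherian X'] in
theorem stableUnderSpecialization_preimage (hZ : StableUnderSpecialization Z) :
    StableUnderSpecialization (f.base ⁻¹' Z) := fun _ _ h hx => hZ (h.map f.continuous) hx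

/-- Flat base change for the Z-closure. -/
theorem nonempty_iso_pullback_H0 [Flat f] (hZ : StableUnderSpecialization Z) (F : X.Modules)
    [Coh.IsQCoh F] :
    Nonempty ((Scheme.Modules.pullback f).obj ((ZClos.H0 Z).obj F) ≅
      (ZClos.H0 (f.base ⁻¹' Z)).obj ((Scheme.Modules.pullback f).obj F)) := by
  haveI : Coh.IsQCoh ((ZClos.H0 Z).obj F) := isQCoh_H0 F
  have hG := isZClosed_pullback f hZ (isZClosed_H0 (Z := Z) (F := F))
  let u := (Scheme.Modules.pullback f).map (ZClos.rhoApp Z F)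
  obtain ⟨v, hv, -⟩ := existsUnique_lift hG u
  haveI := isIso_lift (stableUnderSpecialization_preimage f hZ) hG u (fun x hx => by
    letI := (f.stalkMap x).hom.toAlgebra
    obtain ⟨a, b, hab⟩ := Groth.Agent.PullbackMod.exists_stalk_square f (ZClos.rhoApp Z F) x
    have hr : Function.Bijective (Groth.Agent.PullbackMod.stalkLin (ZClos.rhoApp Z F) (f x)) :=
      rho_stalk_bijective hx
    have hl := (LinearEquiv.lTensor (X'.presheaf.stalk x) (LinearEquiv.ofBijective _ hr)).bijective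
    have h2 : Function.Bijective (Groth.Agent.PullbackMod.stalkLin u x) := by
      have e : ⇑(Groth.Agent.PullbackMod.stalkLin u x) = b ∘
          (Groth.Agent.PullbackMod.stalkLin (ZClos.rhoApp Z F) (f x)).lTensor (X'.presheaf.stalk x) ∘ a.symm :=
        funext fun z => by
          rw [Function.comp_apply, Function.comp_apply, ← hab, LinearEquiv.apply_symm_apply]
      rw [e]
      exact b.bijective.comp (hl.comp a.symm.bijective)
    exact h2) v hv
  exact ⟨(asIso v).symm⟩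

end ZClosLib
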