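import Groth.Agent.ZClosLib.CoherenceSpec
import Groth.Agent.ZClosLib.FlatBC
import Groth.Agent.PullbackMod.Props
import Groth.Agent.AssLib.Noetherian

/-!
# The criterion for coherence of the Z-closure
-/

set_option autoImplicit false
set_option linter.style.haveILetI false

universe u

open CategoryTheory CategoryTheory.Limits AlgebraicGeometry Opposite TopologicalSpace
open Groth.Agent

noncomputable section

namespace ZClosLib

variable {X : Scheme.{u}}

theorem isCoh_congr [IsLocallyNoetherian X] {M N : X.Modules} (e : M ≅ N) (h : Coh.IsCoh M) :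
    Coh.IsCoh N :=
  haveI := h.1
  QCohLib.isCoh_of_mono e.inv h
    ((SheafOfModules.isQuasicoherent X.ringCatSheaf).prop_of_iso e h.1)

/-- `fromSpec` with source in the form `Spec (of A)`. -/
abbrev fs {V : X.Opens} (hV : IsAffineOpen V) : Spec (CommRingCat.of Γ(X, V)) ⟶ X := hV.fromSpec

instance {V : X.Opens} (hV : IsAffineOpen V) : IsOpenImmersion (fs hV) :=
  inferInstanceAs (IsOpenImmersion hV.fromSpec)

theorem fs_eq {V : X.Opens} (hV : IsAffineOpen V) (y : Spec (CommRingCat.of Γ(X, V))) :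
    (fs hV).base y = AssLib.pt hV y := rfl

/-- The top member of the index of a closed subset. -/
def topCl {Z : Set X} (T : ZClos.Cl Z) : ZClos.Cl (T.1 : Set X) := ⟨T.1, subset_rfl⟩

/-- For a closed subset the closure is the direct image from the complement. -/
def h0ClosedIso {Z : Set X} (T : ZClos.Cl Z) (F : X.Modules) :
    (ZClos.resPush T.U).obj F ≅ (ZClos.H0 (T.1 : Set X)).obj F :=
  @asIso _ _ _ _
    (colimit.ι ((ZClos.diagram (T.1 : Set X)).obj F) (topCl T))
    (isIso_ι_of_isTerminal (IsTerminal.ofUniqueHom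
      (fun S => homOfLE (show S ≤ (topCl T) from S.2))
      (fun _ _ => Subsingleton.elim _ _)) ((ZClos.diagram (T.1 : Set X)).obj F))

variable [IsLocallyNoetherian X] {F : X.Modules} {V : X.Opens} (hV : IsAffineOpen V)

/-- On an affine open a quasi-coherent module is the tilde of its sections. -/
theorem nonempty_iso_tilde [Coh.IsQCoh F] :
    Nonempty ((Scheme.Modules.pullback (fs hV)).obj F ≅ EGA4.tildeOf Γ(X, V) Γ(F, V)) := by
  haveI : IsIso (F.restrict (fs hV)).fromTildeΓ :=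
    (isIso_fromTildeΓ_iff_isLocalizing _).mpr (CohBase.isLocalizing_restrict F hV)
  exact ⟨((Scheme.Modules.restrictFunctorIsoPullback (fs hV)).app F).symm ≪≫
    (@asIso _ _ _ _ (F.restrict (fs hV)).fromTildeΓ this).symm ≪≫
      (tilde.functor (CommRingCat.of Γ(X, V))).mapIso (QCohLib.topEquiv F hV).toModuleIso⟩

variable {Z : Set X} (hZ : StableUnderSpecialization Z)

include hZ in
theorem nonempty_iso_H0_affine [Coh.IsQCoh F] :
    Nonempty ((Scheme.Modules.pullback (fs hV)).obj ((ZClos.H0 Z).obj F) ≅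
      (ZClos.H0 ((fs hV).base ⁻¹' Z)).obj
        (EGA4.tildeOf Γ(X, V) Γ(F, V))) := by
  haveI := QCohLib.isNoetherianRing_section hV
  obtain ⟨a⟩ := nonempty_iso_pullback_H0 (fs hV) hZ F
  obtain ⟨b⟩ := nonempty_iso_tilde (F := F) hV
  exact ⟨a ≪≫ (ZClos.H0 _).mapIso b⟩

include hZ in
theorem fin_of_isCoh (hF : Coh.IsCoh F) (h : Coh.IsCoh ((ZClos.H0 Z).obj F)) :
    Fin' (R := Γ(X, V)) ((fs hV).base ⁻¹' Z) Γ(F, V) := by
  haveI := hF.1
  haveI := QCohLib.isNoetherianRing_section hV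
  obtain ⟨e⟩ := nonempty_iso_H0_affine (F := F) hV hZ
  exact (isCoh_H0_iff_fin (R := Γ(X, V)) _ _).1 (isCoh_congr e (PullbackMod.isCoh_pullback (fs hV) _ h))

include hZ in
theorem finite_sections_of_fin [Coh.IsQCoh F] [IsNoetherianRing Γ(X, V)]
    (h : Fin' (R := Γ(X, V)) ((fs hV).base ⁻¹' Z) Γ(F, V)) :
    Module.Finite Γ(X, V) Γ((ZClos.H0 Z).obj F, V) := by
  obtain ⟨e⟩ := nonempty_iso_H0_affine (F := F) hV hZ
  haveI : Module.Finite Γ(X, V) Γ(((ZClos.H0 Z).obj F).restrict hV.fromSpec, ⊤) :=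
    haveI : Module.Finite Γ(X, V) ((ΓF Γ(X, V)).obj
        ((ZClos.H0 ((fs hV).base ⁻¹' Z)).obj (EGA4.tildeOf Γ(X, V) Γ(F, V)))) := h
    Module.Finite.equiv (R := Γ(X, V))
      ((ΓF Γ(X, V)).mapIso ((((Scheme.Modules.restrictFunctorIsoPullback (fs hV)).app
        ((ZClos.H0 Z).obj F)) ≪≫ e).symm)).toLinearEquiv
  exact Module.Finite.equiv (QCohLib.topEquiv _ hV)

omit [IsLocallyNoetherian X] in
theorem hull_congr {A : Type u} [CommRing A] (p q : Ideal A) [p.IsPrime] [q.IsPrime] (e : p = q)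
    (h : EGA4.HeightOneHullFinite (A ⧸ p)) : EGA4.HeightOneHullFinite (A ⧸ q) := by
  subst e; exact h

include hZ in
/-- Coherence of the closure from coherence of the direct images along a covering family. -/
theorem isCoh_H0_of_resPush (hF : Coh.IsCoh F) (hass : ∀ x : X, Curv2.IsAssPoint F x → x ∉ Z)
    (hhull : ∀ (V : X.Opens) (hV : IsAffineOpen V) (x : X) (hxV : x ∈ V), Curv2.IsAssPoint F x →
      EGA4.HeightOneHullFinite (Γ(X, V) ⧸ (hV.primeIdealOf ⟨x, hxV⟩).asIdeal))
    (hd : ∀ z ∈ Z, ∃ T : ZClos.Cl Z, z ∈ (T.1 : Set X) ∧ Coh.IsCoh ((ZClos.resPush T.U).obj F)) :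
    Coh.IsCoh ((ZClos.H0 Z).obj F) := by
  haveI := hF.1
  haveI : Coh.IsQCoh ((ZClos.H0 Z).obj F) := isQCoh_H0 F
  refine QCohLib.isCoh_of_finite _ fun V hV => ?_
  haveI := QCohLib.isNoetherianRing_section hV
  haveI := QCohLib.finite_sections_of_isCoh hF hV
  refine finite_sections_of_fin hV hZ ?_
  have hZ' := stableUnderSpecialization_preimage (fs hV) hZ
  refine fin_of_associatedPrimes (R := Γ(X, V)) _ hZ' fun p hp => ?_
  haveI hp' : p.IsPrime := IsAssociatedPrime.isPrime hp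
  let y : Spec Γ(X, V) := (⟨p, hp'⟩ : PrimeSpectrum Γ(X, V))
  have hy : AssLib.pr hV (AssLib.pt_mem hV y) = p := AssLib.pr_pt hV y
  have hya : Curv2.IsAssPoint F (AssLib.pt hV y) := AssLib.isAssPoint_of_mem hV _ (hy ▸ hp)
  have hyZ : y ∉ (fs hV).base ⁻¹' Z := hass _ hya
  refine fin_quotient_of_hull _ hZ' p hyZ (fun w hw hle => ?_) ?_
  · obtain ⟨T, hwT, hT⟩ := hd _ hw
    have hTs : StableUnderSpecialization (T.1 : Set X) := T.1.isClosed.stableUnderSpecialization
    have hTs' := stableUnderSpecialization_preimage (fs hV) hTs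
    have hfin := fin_of_isCoh hV hTs hF (isCoh_congr (h0ClosedIso T F) hT)
    have hyT : y ∉ (fs hV).base ⁻¹' (T.1 : Set X) := fun h => hyZ (T.2 h)
    have hfinp : Fin' (R := Γ(X, V)) ((fs hV).base ⁻¹' (T.1 : Set X)) (Γ(X, V) ⧸ p) := by
      obtain ⟨f, hf⟩ := (isAssociatedPrime_iff_exists_injective_linearMap _ _).1 hp |>.2
      exact fin_of_injective _ f hf hfin
    exact two_le_height_of_fin _ hTs' p hyT hfinp w hwT hle
  · have h2 := hhull V hV _ (AssLib.pt_mem hV y) hya
    exact hull_congr _ p hy h2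

end ZClosLib
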