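import Groth.Agent.ZClosLib.Coherence
import Groth.Agent.QCohLib.Coherent

/-!
# Coherence of the Z-closure on a Noetherian affine scheme
-/

set_option autoImplicit false
set_option linter.style.haveILetI false

universe u

open CategoryTheory AlgebraicGeometry Opposite
open Groth.Agent

noncomputable section

namespace ZClosLib

variable {R : Type u} [CommRing R] [IsNoetherianRing R] (Z : Set (Spec (CommRingCat.of R)))
  (M : Type u) [AddCommGroup M] [Module R M]

theorem isCoh_H0_iff_fin :
    Coh.IsCoh ((ZClos.H0 Z).obj (EGA4.tildeOf R M)) ↔ Fin' Z M := by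
  haveI : Coh.IsQCoh (EGA4.tildeOf R M) :=
    inferInstanceAs ((tilde (ModuleCat.of (CommRingCat.of R) M)).IsQuasicoherent)
  haveI hq : Coh.IsQCoh ((ZClos.H0 Z).obj (EGA4.tildeOf R M)) := isQCoh_H0 _
  constructor
  · intro h
    obtain ⟨S, hS⟩ := (QCohLib.finite_sections_of_isCoh h (isAffineOpen_top _)).fg_top
    let G := (ZClos.H0 Z).obj (EGA4.tildeOf R M)
    let S' : Finset (Sec Z M) := S
    refine ⟨⟨S', eq_top_iff.2 fun x _ => ?_⟩⟩
    suffices H : ∀ y : Γ(G, ⊤), y ∈ Submodule.span Γ(Spec (CommRingCat.of R), ⊤) (S : Set Γ(G, ⊤)) →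
        (show Sec Z M from y) ∈ Submodule.span R (S' : Set (Sec Z M)) from
      H x (hS ▸ Submodule.mem_top)
    intro y hy
    induction hy using Submodule.span_induction with
    | mem y hy => exact Submodule.subset_span hy
    | zero => exact Submodule.zero_mem _
    | add y z _ _ hy hz => exact Submodule.add_mem _ hy hz
    | smul a y _ hy =>
      have h2 := Submodule.smul_mem _ ((Scheme.ΓSpecIso (CommRingCat.of R)).hom a : R) hy
      have e : ((Scheme.ΓSpecIso (CommRingCat.of R)).hom a : R) • (show Sec Z M from y) =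
          (show Sec Z M from (a • y : Γ(G, ⊤))) := by
        refine (Γfun_smul _ (show Sec Z M from y)).trans ?_
        exact congrArg (fun c : Γ(Spec (CommRingCat.of R), ⊤) => c • y) (Iso.hom_inv_id_apply _ a)
      exact e ▸ h2
  · intro h
    let G := (ZClos.H0 Z).obj (EGA4.tildeOf R M)
    refine ⟨hq, QCohLib.isFiniteType_of_finite _ (fun _ : PUnit => ⊤)
      (fun _ => isAffineOpen_top _) iSup_const fun _ => ?_⟩
    obtain ⟨S, hS⟩ := (h : Module.Finite R (Sec Z M)).fg_top
    let S' : Finset Γ(G, ⊤) := S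
    refine ⟨⟨S', eq_top_iff.2 fun x _ => ?_⟩⟩
    suffices H : ∀ y : Sec Z M, y ∈ Submodule.span R (S : Set (Sec Z M)) →
        (show Γ(G, ⊤) from y) ∈ Submodule.span Γ(Spec (CommRingCat.of R), ⊤) (S' : Set Γ(G, ⊤)) from
      H x (hS ▸ Submodule.mem_top)
    intro y hy
    induction hy using Submodule.span_induction with
    | mem y hy => exact Submodule.subset_span hy
    | zero => exact Submodule.zero_mem _
    | add y z _ _ hy hz => exact Submodule.add_mem _ hy hz
    | smul r y _ hy =>
      exact Submodule.smul_mem _ ((Scheme.ΓSpecIso (CommRingCat.of R)).inv r : Γ(Spec (CommRingCat.of R), ⊤)) hy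

end ZClosLib
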