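import Groth.Agent.ZClosLib.QCoh
import Groth.Agent.ZClosLib.Exact
import Groth.Agent.AssLib.Morph
import Groth.Agent.TildeD.Exact

/-!
# The Z-closure on an affine scheme, as a functor on modules
-/

set_option autoImplicit false
set_option backward.isDefEq.respectTransparency false
set_option linter.style.haveILetI false

universe u

open CategoryTheory CategoryTheory.Limits AlgebraicGeometry Opposite TopologicalSpace
open Groth.Agent

noncomputable section

namespace ZClosLib

variable {R : Type u} [CommRing R]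

variable (R) in
/-- The tilde functor. -/
abbrev TF : ModuleCat.{u} (CommRingCat.of R) ⥤ (Spec (CommRingCat.of R)).Modules :=
  tilde.functor (CommRingCat.of R)

variable (R) in
/-- The global section functor. -/
abbrev ΓF : (Spec (CommRingCat.of R)).Modules ⥤ ModuleCat.{u} (CommRingCat.of R) :=
  moduleSpecΓFunctor (R := CommRingCat.of R)

/-- The global sections of the Z-closure of `M~`. -/
abbrev secObj (Z : Set (Spec (CommRingCat.of R))) (M : ModuleCat.{u} (CommRingCat.of R)) : ModuleCat.{u} (CommRingCat.of R) :=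
  (ΓF R).obj ((ZClos.H0 Z).obj ((TF R).obj M))

/-- Functoriality of `secObj`. -/
abbrev secMap (Z : Set (Spec (CommRingCat.of R))) {M N : ModuleCat.{u} (CommRingCat.of R)} (f : M ⟶ N) :
    secObj Z M ⟶ secObj Z N :=
  (ΓF R).map ((ZClos.H0 Z).map ((TF R).map f))

/-- The canonical map `M → Γ(H⁰_Z(M~))`. -/
def secRho (Z : Set (Spec (CommRingCat.of R))) (M : ModuleCat.{u} (CommRingCat.of R)) : M ⟶ secObj Z M :=
  tilde.toTildeΓNatIso.hom.app M ≫ (ΓF R).map (ZClos.rhoApp Z ((TF R).obj M))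

theorem secRho_naturality (Z : Set (Spec (CommRingCat.of R))) {M N : ModuleCat.{u} (CommRingCat.of R)} (f : M ⟶ N) :
    f ≫ secRho Z N = secRho Z M ≫ secMap Z f := by
  have h1 := tilde.toTildeΓNatIso.hom.naturality f
  have h2 : (TF R).map f ≫ ZClos.rhoApp Z _ = ZClos.rhoApp Z _ ≫ (ZClos.H0 Z).map ((TF R).map f) :=
    (ZClos.rho Z).naturality _
  simp only [Functor.id_map, Functor.comp_map] at h1
  rw [secRho, secRho, ← Category.assoc, h1, Category.assoc, Category.assoc, ← Functor.map_comp,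
    ← Functor.map_comp, h2]

/-- Membership in the prime at a point, for global functions. -/
theorem mem_pr_top_iff (y : Spec (CommRingCat.of R)) (a : Γ(Spec (CommRingCat.of R), ⊤)) :
    a ∈ AssLib.pr (isAffineOpen_top (Spec (CommRingCat.of R))) (Opens.mem_top y) ↔
      (Scheme.ΓSpecIso (CommRingCat.of R)).hom a ∈ y.asIdeal := by
  rw [← AssLib.under_maximalIdeal, Ideal.mem_comap, IsLocalRing.mem_maximalIdeal, mem_nonunits_iff]
  refine Iff.trans (not_congr ((Spec (CommRingCat.of R)).mem_basicOpen a y (Opens.mem_top y)).symm) ?_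
  rw [basicOpen_eq_of_affine']
  exact not_not

section Generic

variable {F G : (Spec (CommRingCat.of R)).Modules} (φ : F ⟶ G)

theorem Γfun_smul (r : CommRingCat.of R) (e : (ΓF R).obj G) :
    (r • e : (ΓF R).obj G) =
      (((Scheme.ΓSpecIso (CommRingCat.of R)).inv r : Γ(Spec (CommRingCat.of R), ⊤)) • (show Γ(G, ⊤) from e) : Γ(G, ⊤)) := rfl

theorem exists_smul_eq_of_surjective [Coh.IsQCoh F] [Coh.IsQCoh G] (y : Spec (CommRingCat.of R))
    (h : Function.Surjective ((stalkF y).map φ)) (e : (ΓF R).obj G) :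
    ∃ r : CommRingCat.of R, r ∉ y.asIdeal ∧ ∃ n, r • e = ((ΓF R).map φ).hom n := by
  let e' : Γ(G, ⊤) := e
  let hW := isAffineOpen_top (Spec (CommRingCat.of R))
  let hy : y ∈ (⊤ : (Spec (CommRingCat.of R)).Opens) := Opens.mem_top y
  obtain ⟨f, hf⟩ := h (G.presheaf.germ ⊤ y hy e')
  letI := Module.compHom (F.presheaf.stalk y) ((Spec (CommRingCat.of R)).presheaf.germ ⊤ y hy).hom
  haveI := FlatLocus.isLocalizedModule_germL F hW y hy
  obtain ⟨⟨n, s⟩, hns⟩ := IsLocalizedModule.surj (AssLib.pr hW hy).primeCompl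
    (FlatLocus.germL F ⊤ y hy) (show F.presheaf.stalk y from f)
  have h1 : (Spec (CommRingCat.of R)).presheaf.germ ⊤ y hy (s : Γ(Spec (CommRingCat.of R), ⊤)) • (show F.presheaf.stalk y from f) =
      F.presheaf.germ ⊤ y hy n := hns
  have h2 : G.presheaf.germ ⊤ y hy ((s : Γ(Spec (CommRingCat.of R), ⊤)) • e' - φ.app ⊤ n) = 0 := by
    rw [map_sub, sub_eq_zero]
    refine (PresheafOfModules.germ_smul (R := (Spec (CommRingCat.of R)).presheaf) G.val y ⊤ hy _ e').trans ?_
    refine (congrArg (fun z : G.presheaf.stalk y => (Spec (CommRingCat.of R)).presheaf.germ ⊤ y hy (s : Γ(Spec (CommRingCat.of R), ⊤)) • z) hf.symm).trans ?_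
    refine ((PullbackMod.stalkLin φ y).map_smul _ (show F.presheaf.stalk y from f)).symm.trans ?_
    rw [h1]
    exact PullbackMod.stalkLin_germ φ y hy n
  obtain ⟨t, ht, h0⟩ := (AssLib.germ_eq_zero_iff hW hy _).mp h2
  refine ⟨(Scheme.ΓSpecIso (CommRingCat.of R)).hom (t * (s : Γ(Spec (CommRingCat.of R), ⊤))), fun h => ?_, (t • n : Γ(F, ⊤)), ?_⟩
  · rw [← mem_pr_top_iff] at h
    exact (Ideal.IsPrime.mem_or_mem inferInstance h).elim ht s.2
  · rw [smul_sub, sub_eq_zero, smul_smul] at h0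
    rw [Γfun_smul, Iso.hom_inv_id_apply]
    exact h0.trans (Scheme.Modules.Hom.app_smul φ t n).symm

theorem exists_smul_eq_zero_of_injective [Coh.IsQCoh F] (y : Spec (CommRingCat.of R))
    (h : Function.Injective ((stalkF y).map φ)) (n : (ΓF R).obj F)
    (hn : ((ΓF R).map φ).hom n = 0) :
    ∃ r : CommRingCat.of R, r ∉ y.asIdeal ∧ r • n = 0 := by
  let n' : Γ(F, ⊤) := n
  let hy : y ∈ (⊤ : (Spec (CommRingCat.of R)).Opens) := Opens.mem_top y
  have hn' : φ.app ⊤ n' = 0 := hn
  have h1 : F.presheaf.germ ⊤ y hy n' = 0 := by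
    apply h
    refine (map_germ φ y hy n').trans ?_
    rw [hn', map_zero]
    exact (map_zero _).symm
  obtain ⟨t, ht, h0⟩ := (AssLib.germ_eq_zero_iff (isAffineOpen_top (Spec (CommRingCat.of R))) hy _).mp h1
  refine ⟨(Scheme.ΓSpecIso (CommRingCat.of R)).hom t, fun h' => ht ((mem_pr_top_iff y t).2 h'), ?_⟩
  rw [Γfun_smul, Iso.hom_inv_id_apply]
  exact h0

theorem eq_zero_of_closed [IsNoetherianRing R] {Z : Set (Spec (CommRingCat.of R))} [Coh.IsQCoh G]
    (hG : ZClos.IsZClosed Z G) (hZ : StableUnderSpecialization Z) (e : (ΓF R).obj G)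
    (h : ∀ y : Spec (CommRingCat.of R), y ∉ Z → ∃ r : CommRingCat.of R, r ∉ y.asIdeal ∧ r • e = 0) : e = 0 := by
  let e' : Γ(G, ⊤) := e
  haveI : IsIso (ZClos.rhoApp Z G) := hG
  change e' = 0
  apply (bijective_of_isIso (ZClos.rhoApp Z G) ⊤).1
  rw [map_zero, rho_eq_inc G ⊥]
  refine inc_eq_zero_of_germ hZ ⊥ ⊤ _ fun x hx hxZ => ?_
  rw [germ_res']
  obtain ⟨r, hr, hre⟩ := h x hxZ
  rw [Γfun_smul] at hre
  refine (AssLib.germ_eq_zero_iff (isAffineOpen_top (Spec (CommRingCat.of R))) (Opens.mem_top x) e').mpr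
    ⟨(Scheme.ΓSpecIso (CommRingCat.of R)).inv r, fun h' => hr ?_, hre⟩
  rwa [mem_pr_top_iff, Iso.inv_hom_id_apply] at h'

end Generic

variable [IsNoetherianRing R] {Z : Set (Spec (CommRingCat.of R))} {M : ModuleCat.{u} (CommRingCat.of R)}

/-- Outside `Z` every section of the closure is, up to a denominator, a section of the module. -/
theorem exists_smul_eq_secRho {y : Spec (CommRingCat.of R)} (hy : y ∉ Z) (e : secObj Z M) :
    ∃ r : CommRingCat.of R, r ∉ y.asIdeal ∧ ∃ m : M, r • e = (secRho Z M).hom m := by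
  haveI : Coh.IsQCoh ((TF R).obj M) := inferInstanceAs ((tilde M).IsQuasicoherent)
  haveI : Coh.IsQCoh ((ZClos.H0 Z).obj ((TF R).obj M)) := isQCoh_H0 _
  obtain ⟨r, hr, n, hn⟩ := exists_smul_eq_of_surjective (ZClos.rhoApp Z ((TF R).obj M)) y
    (rho_stalk_bijective (F := (TF R).obj M) hy).2 e
  refine ⟨r, hr, (tilde.toTildeΓNatIso.inv.app M).hom n, ?_⟩
  rw [secRho, ModuleCat.hom_comp, LinearMap.comp_apply]
  refine hn.trans (congrArg _ ?_)
  exact (ConcreteCategory.congr_hom (tilde.toTildeΓNatIso.inv_hom_id_app M) n).symm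

/-- The kernel of `M → Γ(H⁰_Z(M~))` is killed outside `Z`. -/
theorem exists_smul_eq_zero {y : Spec (CommRingCat.of R)} (hy : y ∉ Z) (m : M) (hm : (secRho Z M).hom m = 0) :
    ∃ r : CommRingCat.of R, r ∉ y.asIdeal ∧ r • m = 0 := by
  haveI : Coh.IsQCoh ((TF R).obj M) := inferInstanceAs ((tilde M).IsQuasicoherent)
  rw [secRho, ModuleCat.hom_comp, LinearMap.comp_apply] at hm
  obtain ⟨r, hr, h0⟩ := exists_smul_eq_zero_of_injective (ZClos.rhoApp Z ((TF R).obj M)) y
    (rho_stalk_bijective (F := (TF R).obj M) hy).1 _ hm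
  refine ⟨r, hr, ?_⟩
  have hinj : Function.Injective (tilde.toTildeΓNatIso.hom.app M).hom :=
    Function.LeftInverse.injective (g := (tilde.toTildeΓNatIso.inv.app M).hom)
      fun m => ConcreteCategory.congr_hom (tilde.toTildeΓNatIso.hom_inv_id_app M) m
  apply hinj
  exact ((tilde.toTildeΓNatIso.hom.app M).hom.map_smul r m).trans (h0.trans (map_zero _).symm)

/-- A section of the closure killed outside `Z` vanishes. -/
theorem eq_zero_of_forall_notMem (hZ : StableUnderSpecialization Z) (e : secObj Z M)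
    (h : ∀ y : Spec (CommRingCat.of R), y ∉ Z → ∃ r : CommRingCat.of R, r ∉ y.asIdeal ∧ r • e = 0) : e = 0 := by
  haveI : Coh.IsQCoh ((TF R).obj M) := inferInstanceAs ((tilde M).IsQuasicoherent)
  haveI : Coh.IsQCoh ((ZClos.H0 Z).obj ((TF R).obj M)) := isQCoh_H0 _
  exact eq_zero_of_closed (isZClosed_H0 (Z := Z) (F := (TF R).obj M)) hZ e h

omit [IsNoetherianRing R] in
/-- Left exactness of `M ↦ Γ(H⁰_Z(M~))`. -/
theorem exact_secMap (Z : Set (Spec (CommRingCat.of R))) (S : ShortComplex (ModuleCat.{u} (CommRingCat.of R)))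
    (hS : S.Exact) (hf : Mono S.f) :
    Function.Injective (secMap Z S.f).hom ∧ Function.Exact (secMap Z S.f).hom (secMap Z S.g).hom := by
  haveI := TildeD.preservesFiniteLimits_tilde (R := CommRingCat.of R)
  haveI := preservesFiniteLimits_H0 (X := Spec (CommRingCat.of R)) Z
  haveI : PreservesLimitsOfSize.{u, u} (ΓF R) :=
    (tilde.adjunction (R := CommRingCat.of R)).rightAdjoint_preservesLimits
  haveI : PreservesLimitsOfSize.{0, 0} (ΓF R) := preservesLimitsOfSize_shrink _
  haveI : PreservesFiniteLimits (ΓF R) := ⟨fun J _ _ => inferInstance⟩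
  haveI : (TF R).Additive := ⟨fun {M N f g} => tilde.map_add f g⟩
  haveI : (ZClos.H0 (X := Spec (CommRingCat.of R)) Z).Additive := Functor.additive_of_preserves_binary_products _
  haveI : (ΓF R).Additive := Functor.additive_of_preserves_binary_products _
  let S1 := S.map (TF R)
  have h1 : S1.Exact := hS.map_of_mono_of_preservesKernel _ hf inferInstance
  haveI hf1 : Mono S1.f := by
    haveI := hf
    exact Functor.map_mono (TF R) S.f
  let S2 := S1.map (ZClos.H0 Z)
  have h2 : S2.Exact := h1.map_of_mono_of_preservesKernel _ hf1 inferInstance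
  haveI hf2 : Mono S2.f := by
    haveI := hf1
    exact Functor.map_mono (ZClos.H0 Z) S1.f
  let S3 := S2.map (ΓF R)
  have h3 : S3.Exact := h2.map_of_mono_of_preservesKernel _ hf2 inferInstance
  haveI hf3 : Mono S3.f := by
    haveI := hf2
    exact Functor.map_mono (ΓF R) S2.f
  exact ⟨(ModuleCat.mono_iff_injective S3.f).1 hf3, (ShortComplex.ShortExact.moduleCat_exact_iff_function_exact S3).1 h3⟩

end ZClosLib
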