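import Groth.Agent.ZClosLib.Affine
import Groth.Agent.CAlgBasics.TorsionFree
import Groth.Agent.HullFinLib.Basic

/-!
# Finiteness of the Z-closure of a finite module
-/

set_option autoImplicit false
set_option linter.style.haveILetI false

universe u

open CategoryTheory AlgebraicGeometry

noncomputable section

namespace ZClosLib

variable {R : Type u} [CommRing R] [IsNoetherianRing R]

omit [IsNoetherianRing R] in
theorem isNoetherianRing_of : IsNoetherianRing R → IsNoetherianRing (CommRingCat.of R) := fun h => h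

instance : IsNoetherianRing (CommRingCat.of R) := isNoetherianRing_of ‹_›

variable (Z : Set (Spec (CommRingCat.of R)))

/-- Sections of the closure of a module. -/
abbrev Sec (M : Type u) [AddCommGroup M] [Module R M] : ModuleCat.{u} (CommRingCat.of R) :=
  secObj Z (ModuleCat.of (CommRingCat.of R) M)

variable {M N Q : Type u} [AddCommGroup M] [Module R M] [AddCommGroup N] [Module R N]
  [AddCommGroup Q] [Module R Q]

/-- The canonical map into the sections of the closure. -/
def rhoL (M : Type u) [AddCommGroup M] [Module R M] : M →ₗ[R] Sec Z M :=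
  (secRho Z (ModuleCat.of (CommRingCat.of R) M)).hom

/-- Functoriality of the sections of the closure. -/
def secL (f : M →ₗ[R] N) : Sec Z M →ₗ[R] Sec Z N :=
  (secMap Z (ModuleCat.ofHom f :
    ModuleCat.of (CommRingCat.of R) M ⟶ ModuleCat.of (CommRingCat.of R) N)).hom

set_option maxHeartbeats 1000000 in
omit [IsNoetherianRing R] in
theorem secL_rhoL (f : M →ₗ[R] N) (m : M) : secL Z f (rhoL Z M m) = rhoL Z N (f m) :=
  (ConcreteCategory.congr_hom (secRho_naturality Z (ModuleCat.ofHom f :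
    ModuleCat.of (CommRingCat.of R) M ⟶ ModuleCat.of (CommRingCat.of R) N)) m).symm

omit [IsNoetherianRing R] in
theorem exact_secL (f : M →ₗ[R] N) (g : N →ₗ[R] Q) (hf : Function.Injective f)
    (hfg : Function.Exact f g) :
    Function.Injective (secL Z f) ∧ Function.Exact (secL Z f) (secL Z g) := by
  let S : ShortComplex (ModuleCat.{u} (CommRingCat.of R)) :=
    ShortComplex.moduleCatMk (R := CommRingCat.of R) f g hfg.linearMap_comp_eq_zero
  exact exact_secMap Z S ((ShortComplex.ShortExact.moduleCat_exact_iff_function_exact S).2 hfg)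
    ((ModuleCat.mono_iff_injective S.f).2 hf)

omit [IsNoetherianRing R] in
theorem secL_injective (f : M →ₗ[R] N) (hf : Function.Injective f) : Function.Injective (secL Z f) :=
  (exact_secL Z f (LinearMap.range f).mkQ hf (LinearMap.exact_map_mkQ_range f)).1

theorem subsingleton_sec (hZ : StableUnderSpecialization Z)
    (h : ∀ y : Spec (CommRingCat.of R), y ∉ Z → ∀ m : M, ∃ r : R, r ∉ y.asIdeal ∧ r • m = 0) :
    Subsingleton (Sec Z M) := by
  refine subsingleton_of_forall_eq 0 fun e => eq_zero_of_forall_notMem hZ e fun y hy => ?_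
  obtain ⟨r, hr, m, hm⟩ := exists_smul_eq_secRho hy e
  obtain ⟨s, hs, hsm⟩ := h y hy m
  refine ⟨(s * r : R), fun h' => (y.isPrime.mem_or_mem h').elim hs hr, ?_⟩
  change ((s * r : R) • e : Sec Z M) = 0
  rw [mul_smul]
  exact (congrArg (fun z : Sec Z M => s • z) hm).trans
    (((rhoL Z M).map_smul s m).symm.trans ((congrArg _ hsm).trans (map_zero _)))

/-- Finiteness of the sections of the closure. -/
abbrev Fin' (M : Type u) [AddCommGroup M] [Module R M] : Prop := Module.Finite R (Sec Z M)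

theorem fin_of_map (f : M →ₗ[R] N) (hk : Fin' Z (LinearMap.ker f)) (hN : Fin' Z N) : Fin' Z M := by
  obtain ⟨-, hex⟩ := exact_secL Z (LinearMap.ker f).subtype f (Submodule.injective_subtype _)
    f.exact_subtype_ker_map
  haveI : IsNoetherian R (Sec Z (LinearMap.ker f)) := isNoetherian_of_isNoetherianRing_of_finite R _
  haveI : IsNoetherian R (Sec Z N) := isNoetherian_of_isNoetherianRing_of_finite R _
  haveI : IsNoetherian R (Sec Z M) := isNoetherian_of_range_eq_ker _ _ hex.linearMap_ker_eq.symm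
  exact inferInstance

theorem fin_of_injective (f : M →ₗ[R] N) (hf : Function.Injective f) (hN : Fin' Z N) : Fin' Z M := by
  haveI : IsNoetherian R (Sec Z N) := isNoetherian_of_isNoetherianRing_of_finite R _
  exact Module.Finite.of_injective (secL Z f) (secL_injective Z f hf)

variable (hZ : StableUnderSpecialization Z)

include hZ in
theorem fin_of_subsingleton (h : Subsingleton M) : Fin' Z M := by
  haveI := subsingleton_sec Z hZ (M := M) fun y _ m =>
    ⟨1, fun h' => y.isPrime.ne_top ((Ideal.eq_top_iff_one _).2 h'), Subsingleton.elim _ _⟩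
  exact inferInstance

include hZ in
theorem fin_pi (hN : Fin' Z N) : ∀ (n : ℕ) (M : Type u) [AddCommGroup M] [Module R M]
    (f : M →ₗ[R] (Fin n → N)), Function.Injective f → Fin' Z M
  | 0, M, _, _, f, hf => fin_of_subsingleton Z hZ (hf.subsingleton)
  | n + 1, M, _, _, f, hf => by
    let g : M →ₗ[R] N := (LinearMap.proj (0 : Fin (n + 1))).comp f
    refine fin_of_map Z g (fin_pi hN n _
      (((LinearMap.funLeft R N Fin.succ).comp f).comp (LinearMap.ker g).subtype) ?_) hN
    intro a b hab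
    apply Subtype.ext
    apply hf
    funext i
    refine Fin.cases ?_ (fun j => congrFun hab j) i
    exact (LinearMap.mem_ker.1 a.2).trans (LinearMap.mem_ker.1 b.2).symm

include hZ in
theorem fin_quotient_of_mem (p : Ideal R) [hp : p.IsPrime]
    (h : (⟨p, hp⟩ : PrimeSpectrum R) ∈ Z) : Fin' Z (R ⧸ p) := by
  haveI := subsingleton_sec Z hZ (M := R ⧸ p) fun y hy m => by
    obtain ⟨r, hr, hry⟩ := SetLike.not_le_iff_exists.1 (fun hle : p ≤ y.asIdeal =>
      hy (hZ ((PrimeSpectrum.le_iff_specializes ⟨p, hp⟩ y).1 hle) h))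
    refine ⟨r, hry, ?_⟩
    rw [Algebra.smul_def, Ideal.Quotient.algebraMap_eq, Ideal.Quotient.eq_zero_iff_mem.2 hr, zero_mul]
  exact inferInstance

section Quotient

variable (p : Ideal R) [hp : p.IsPrime] (hpZ : (⟨p, hp⟩ : PrimeSpectrum R) ∉ Z)

include hpZ in
theorem rhoL_quotient_injective (b : R ⧸ p) (hb : rhoL Z (R ⧸ p) b = 0) : b = 0 := by
  obtain ⟨r, hr, h0⟩ := exists_smul_eq_zero (Z := Z) (M := ModuleCat.of (CommRingCat.of R) (R ⧸ p)) hpZ b hb
  have h1 : Ideal.Quotient.mk p r * b = 0 := by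
    rw [← Ideal.Quotient.algebraMap_eq, ← Algebra.smul_def]; exact h0
  exact (mul_eq_zero.1 h1).resolve_left fun h => hr (Ideal.Quotient.eq_zero_iff_mem.1 h)

include hZ hpZ in
theorem eq_zero_of_smul (t : R) (ht : t ∉ p) (e : Sec Z (R ⧸ p)) (hte : t • e = 0) : e = 0 := by
  refine eq_zero_of_forall_notMem hZ e fun y hy => ?_
  obtain ⟨r, hr, b, hb⟩ := exists_smul_eq_secRho hy e
  by_cases hle : p ≤ y.asIdeal
  · refine ⟨r, hr, ?_⟩
    have h1 : rhoL Z (R ⧸ p) (t • b) = 0 := by
      rw [map_smul]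
      exact (congrArg (fun z : Sec Z (R ⧸ p) => t • z) hb).symm.trans
        ((smul_comm t (show R from r) e).trans (by rw [hte, smul_zero]))
    have h2 := rhoL_quotient_injective Z p hpZ _ h1
    rw [Algebra.smul_def, Ideal.Quotient.algebraMap_eq] at h2
    have hb0 : b = 0 := (mul_eq_zero.1 h2).resolve_left fun h => ht (Ideal.Quotient.eq_zero_iff_mem.1 h)
    exact hb.trans ((congrArg (rhoL Z (R ⧸ p)) hb0).trans (map_zero _))
  · obtain ⟨s, hs, hsy⟩ := SetLike.not_le_iff_exists.1 hle
    refine ⟨(s * r : R), fun h' => (y.isPrime.mem_or_mem h').elim hsy hr, ?_⟩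
    change ((s * r : R) • e : Sec Z (R ⧸ p)) = 0
    have h1 : (s • b : R ⧸ p) = 0 := by
      rw [Algebra.smul_def, Ideal.Quotient.algebraMap_eq, Ideal.Quotient.eq_zero_iff_mem.2 hs, zero_mul]
    rw [mul_smul]
    exact (congrArg (fun z : Sec Z (R ⧸ p) => s • z) hb).trans
      (((rhoL Z (R ⧸ p)).map_smul s b).symm.trans ((congrArg _ h1).trans (map_zero _)))

local notation "K" => FractionRing (R ⧸ p)

omit [IsNoetherianRing R] in
theorem algebraMap_smul' (t : R) (b : R ⧸ p) : algebraMap (R ⧸ p) K (t • b) = t • algebraMap (R ⧸ p) K b :=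
  ((IsScalarTower.toAlgHom R (R ⧸ p) K).toLinearMap.map_smul t b)

omit [IsNoetherianRing R] in
theorem algebraMap_ne_zero {t : R} (ht : t ∉ p) : algebraMap R K t ≠ 0 := by
  rw [IsScalarTower.algebraMap_apply R (R ⧸ p) K, Ideal.Quotient.algebraMap_eq]
  exact fun h => ht (Ideal.Quotient.eq_zero_iff_mem.1 ((IsFractionRing.injective (R ⧸ p) K) (h.trans (map_zero _).symm)))

omit [IsNoetherianRing R] in
theorem eq_of_smul_eq {t : R} (ht : t ∉ p) {x y : K} (h : t • x = t • y) : x = y := by
  rw [Algebra.smul_def, Algebra.smul_def] at h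
  exact mul_left_cancel₀ (algebraMap_ne_zero p ht) h

include hpZ in
theorem exists_frac (e : Sec Z (R ⧸ p)) :
    ∃ (x : K) (t : R) (b : R ⧸ p), t ∉ p ∧ t • e = rhoL Z (R ⧸ p) b ∧
      t • x = algebraMap (R ⧸ p) K b := by
  obtain ⟨t, ht, b, hb⟩ := exists_smul_eq_secRho (Z := Z) hpZ e
  have ht' : Ideal.Quotient.mk p t ∈ nonZeroDivisors (R ⧸ p) :=
    mem_nonZeroDivisors_of_ne_zero fun h => ht (Ideal.Quotient.eq_zero_iff_mem.1 h)
  refine ⟨IsLocalization.mk' K b ⟨_, ht'⟩, t, b, ht, hb, ?_⟩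
  rw [Algebra.smul_def, IsScalarTower.algebraMap_apply R (R ⧸ p) K, Ideal.Quotient.algebraMap_eq]
  exact IsLocalization.mk'_spec' K b ⟨_, ht'⟩

/-- The fraction attached to a section of the closure. -/
def frac (e : Sec Z (R ⧸ p)) : K := (exists_frac Z p hpZ e).choose

theorem frac_spec (e : Sec Z (R ⧸ p)) (t : R) (b : R ⧸ p) (h : t • e = rhoL Z (R ⧸ p) b) :
    t • frac Z p hpZ e = algebraMap (R ⧸ p) K b := by
  obtain ⟨t', b', ht', he', hx⟩ := (exists_frac Z p hpZ e).choose_spec
  have h1 : rhoL Z (R ⧸ p) (t • b' - t' • b) = 0 := by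
    rw [map_sub, map_smul, map_smul, ← he', ← h, smul_comm, sub_self]
  have h2 : algebraMap (R ⧸ p) K (t • b') = algebraMap (R ⧸ p) K (t' • b) :=
    congrArg _ (sub_eq_zero.1 (rhoL_quotient_injective Z p hpZ _ h1))
  rw [algebraMap_smul', algebraMap_smul', ← hx, smul_comm t t'] at h2
  exact eq_of_smul_eq p ht' h2

/-- `frac` as a linear map. -/
def fracL : Sec Z (R ⧸ p) →ₗ[R] K where
  toFun := frac Z p hpZ
  map_add' e e' := by
    obtain ⟨x, t, b, ht, hb, -⟩ := exists_frac Z p hpZ e
    obtain ⟨x', t', b', ht', hb', -⟩ := exists_frac Z p hpZ e'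
    have h : (t * t') • (e + e') = rhoL Z (R ⧸ p) (t' • b + t • b') := by
      rw [smul_add, map_add, map_smul, map_smul, ← hb, ← hb', smul_smul, smul_smul, mul_comm t' t]
    refine eq_of_smul_eq p (fun hh => (hp.mem_or_mem hh).elim ht ht') ((frac_spec Z p hpZ _ _ _ h).trans ?_)
    rw [map_add, algebraMap_smul', algebraMap_smul', ← frac_spec Z p hpZ e t b hb,
      ← frac_spec Z p hpZ e' t' b' hb', smul_smul, smul_smul, mul_comm t' t, ← smul_add]
  map_smul' r e := by
    obtain ⟨x, t, b, ht, hb, -⟩ := exists_frac Z p hpZ e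
    have h : t • (r • e) = rhoL Z (R ⧸ p) (r • b) := by rw [smul_comm, hb, map_smul]
    refine eq_of_smul_eq p ht ((frac_spec Z p hpZ _ _ _ h).trans ?_)
    rw [algebraMap_smul', ← frac_spec Z p hpZ e t b hb, RingHom.id_apply, smul_comm]

include hZ in
theorem fracL_injective : Function.Injective (fracL Z p hpZ) := by
  refine (injective_iff_map_eq_zero _).2 fun e he => ?_
  obtain ⟨x, t, b, ht, hb, -⟩ := exists_frac Z p hpZ e
  have h := frac_spec Z p hpZ e t b hb
  rw [show frac Z p hpZ e = 0 from he, smul_zero] at h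
  have hb0 : b = 0 := IsFractionRing.injective (R ⧸ p) K (h.symm.trans (map_zero _).symm)
  exact eq_zero_of_smul Z hZ p hpZ t ht e (by rw [hb, hb0, map_zero])

theorem fracL_mem_hull (hht : ∀ y : Spec (CommRingCat.of R), y ∈ Z → p ≤ y.asIdeal →
      (2 : ℕ∞) ≤ (y.asIdeal.map (Ideal.Quotient.mk p)).height) (e : Sec Z (R ⧸ p)) :
    fracL Z p hpZ e ∈ EGA4.heightOneHull (R ⧸ p) := by
  intro P hP hP1
  let y : Spec (CommRingCat.of R) := ⟨P.comap (Ideal.Quotient.mk p), inferInstance⟩
  have hle : p ≤ P.comap (Ideal.Quotient.mk p) := fun a ha => by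
    rw [Ideal.mem_comap, Ideal.Quotient.eq_zero_iff_mem.2 ha]; exact P.zero_mem
  have hy : y ∉ Z := fun h => by
    have h2 := hht y h hle
    rw [show y.asIdeal.map (Ideal.Quotient.mk p) = P from
      Ideal.map_comap_of_surjective _ Ideal.Quotient.mk_surjective P, hP1] at h2
    exact absurd h2 (by decide)
  obtain ⟨t, ht, b, hb⟩ := exists_smul_eq_secRho hy e
  refine ⟨Ideal.Quotient.mk p t, ht, b, ?_⟩
  have h := frac_spec Z p hpZ e t b hb
  rw [Algebra.smul_def, IsScalarTower.algebraMap_apply R (R ⧸ p) K, Ideal.Quotient.algebraMap_eq] at h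
  exact h.symm

include hZ hpZ in
/-- The closure of `R ⧸ p` is finite if the height one hull is finite. -/
theorem fin_quotient_of_hull (hht : ∀ y : Spec (CommRingCat.of R), y ∈ Z → p ≤ y.asIdeal →
      (2 : ℕ∞) ≤ (y.asIdeal.map (Ideal.Quotient.mk p)).height)
    (hh : EGA4.HeightOneHullFinite (R ⧸ p)) : Fin' Z (R ⧸ p) := by
  obtain ⟨B, hB, hfin⟩ := hh
  haveI := hfin
  haveI : Module.Finite R B := Module.Finite.trans (R ⧸ p) B
  let B' : Submodule R K := (Subalgebra.toSubmodule B).restrictScalars R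
  haveI : Module.Finite R B' :=
    Module.Finite.equiv (LinearEquiv.refl R B : B ≃ₗ[R] B')
  have hmem : ∀ e, fracL Z p hpZ e ∈ B' := fun e => by
    change fracL Z p hpZ e ∈ (B : Set K)
    rw [hB]; exact fracL_mem_hull Z p hpZ hht e
  haveI : IsNoetherian R B' := isNoetherian_of_isNoetherianRing_of_finite R _
  exact Module.Finite.of_injective (LinearMap.codRestrict B' (fracL Z p hpZ) hmem)
    (fun a b h => fracL_injective Z hZ p hpZ (congrArg Subtype.val h))

/-- The elements of the fraction field which are, outside `Z`, fractions with denominators off the point. -/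
def clHull : Submodule R K where
  carrier := {x | ∀ y : Spec (CommRingCat.of R), y ∉ Z →
    ∃ r : R, r ∉ y.asIdeal ∧ ∃ b : R ⧸ p, r • x = algebraMap (R ⧸ p) K b}
  zero_mem' y _ := ⟨1, fun h => y.isPrime.ne_top ((Ideal.eq_top_iff_one _).2 h), 0, by
    rw [smul_zero, map_zero]⟩
  add_mem' {x x'} hx hx' y hy := by
    obtain ⟨r, hr, b, hb⟩ := hx y hy
    obtain ⟨r', hr', b', hb'⟩ := hx' y hy
    refine ⟨r * r', fun hh => (y.isPrime.mem_or_mem hh).elim hr hr', r' • b + r • b', ?_⟩
    rw [map_add, algebraMap_smul', algebraMap_smul', ← hb, ← hb', smul_add, smul_smul, smul_smul, mul_comm r' r]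
  smul_mem' c x hx y hy := by
    obtain ⟨r, hr, b, hb⟩ := hx y hy
    exact ⟨r, hr, c • b, by rw [smul_comm, hb, algebraMap_smul']⟩

include hZ hpZ in
/-- If the closure of `R ⧸ p` is finite, so is the module of such fractions. -/
theorem finite_clHull (hfin : Fin' Z (R ⧸ p)) : Module.Finite R (clHull Z p) := by
  let j : (R ⧸ p) →ₗ[R] clHull Z p := LinearMap.codRestrict (clHull Z p)
    (IsScalarTower.toAlgHom R (R ⧸ p) K).toLinearMap fun b y _ =>
      ⟨1, fun h => y.isPrime.ne_top ((Ideal.eq_top_iff_one _).2 h), b, one_smul _ _⟩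
  have hj : Function.Injective j := fun a b h =>
    IsFractionRing.injective (R ⧸ p) K (congrArg Subtype.val h)
  obtain ⟨-, hex⟩ := exact_secL Z j (LinearMap.range j).mkQ hj (LinearMap.exact_map_mkQ_range j)
  haveI hQ : Subsingleton (Sec Z ((clHull Z p) ⧸ LinearMap.range j)) :=
    subsingleton_sec Z hZ fun y hy m => by
      obtain ⟨x, rfl⟩ := Submodule.Quotient.mk_surjective _ m
      obtain ⟨r, hr, b, hb⟩ := x.2 y hy
      refine ⟨r, hr, ?_⟩
      rw [← Submodule.Quotient.mk_smul, Submodule.Quotient.mk_eq_zero]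
      exact ⟨b, Subtype.ext hb.symm⟩
  have hsurj : Function.Surjective (secL Z j) := fun e => (hex e).1 (Subsingleton.elim _ _)
  haveI : IsNoetherian R (Sec Z (R ⧸ p)) := isNoetherian_of_isNoetherianRing_of_finite R _
  haveI : IsNoetherian R (Sec Z (clHull Z p)) := isNoetherian_of_surjective _ (LinearMap.range_eq_top.2 hsurj)
  refine Module.Finite.of_injective (rhoL Z (clHull Z p)) ((injective_iff_map_eq_zero _).2 fun x hx => ?_)
  obtain ⟨r, hr, h0⟩ := exists_smul_eq_zero (Z := Z) (M := ModuleCat.of (CommRingCat.of R) (clHull Z p)) hpZ x hx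
  refine Subtype.ext (eq_of_smul_eq p (x := (x : K)) (y := 0) hr ?_)
  rw [smul_zero]
  exact congrArg Subtype.val h0

include hZ hpZ in
theorem two_le_height_of_fin (hfin : Fin' Z (R ⧸ p)) (y : Spec (CommRingCat.of R)) (hy : y ∈ Z)
    (hle : p ≤ y.asIdeal) : (2 : ℕ∞) ≤ (y.asIdeal.map (Ideal.Quotient.mk p)).height := by
  by_contra hlt
  haveI := finite_clHull Z hZ p hpZ hfin
  haveI := y.isPrime
  have hker : RingHom.ker (Ideal.Quotient.mk p) ≤ y.asIdeal := by rwa [Ideal.mk_ker]
  haveI hP : (y.asIdeal.map (Ideal.Quotient.mk p)).IsPrime :=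
    Ideal.map_isPrime_of_surjective Ideal.Quotient.mk_surjective hker
  set P := y.asIdeal.map (Ideal.Quotient.mk p) with hPdef
  have hPcomap : P.comap (Ideal.Quotient.mk p) = y.asIdeal := by
    rw [hPdef, Ideal.comap_map_of_surjective _ Ideal.Quotient.mk_surjective,
      ← RingHom.ker_eq_comap_bot, Ideal.mk_ker, sup_eq_left.2 hle]
  have hP0 : P ≠ ⊥ := fun h => hpZ (by
    have h1 : y.asIdeal = p := by rw [← hPcomap, h, ← RingHom.ker_eq_comap_bot, Ideal.mk_ker]
    rwa [show (⟨p, hp⟩ : Spec (CommRingCat.of R)) = y from PrimeSpectrum.ext h1.symm])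
  obtain ⟨b, hbP, hb0⟩ := Submodule.exists_mem_ne_zero_of_ne_bot hP0
  have hP1 : P.height ≤ 1 :=
    Order.le_of_lt_add_one (lt_of_lt_of_eq (not_le.1 hlt) one_add_one_eq_two.symm)
  obtain ⟨G, hG⟩ := IsNoetherian.noetherian P
  have hsn : ∀ n : ℕ, 0 < n → ∃ s : R ⧸ p, s ∉ P ∧ ∃ m : ℕ, ∀ c ∈ G, b ^ n ∣ s * c ^ m := by
    intro n hn
    have hc : ∀ c ∈ G, ∃ s : R ⧸ p, s ∉ P ∧ ∃ m : ℕ, b ^ n ∣ s * c ^ m := by
      intro c hc
      by_contra hcon
      push Not at hcon
      let S : Submonoid (R ⧸ p) :=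
        { carrier := {z | ∃ s : R ⧸ p, s ∉ P ∧ ∃ m : ℕ, z = s * c ^ m}
          one_mem' := ⟨1, fun h => hP.ne_top ((Ideal.eq_top_iff_one _).2 h), 0, by simp⟩
          mul_mem' := by
            rintro _ _ ⟨s, hs, m, rfl⟩ ⟨s', hs', m', rfl⟩
            exact ⟨s * s', fun h => (hP.mem_or_mem h).elim hs hs', m + m', by ring⟩ }
      have hdis : Disjoint ((Ideal.span {b ^ n} : Ideal (R ⧸ p)) : Set (R ⧸ p)) S := by
        rw [Set.disjoint_left]
        rintro z hz ⟨s, hs, m, rfl⟩
        exact hcon s hs m (Ideal.mem_span_singleton.1 hz)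
      obtain ⟨Q', hQ', hle', hdis'⟩ := Ideal.exists_le_prime_disjoint _ S hdis
      haveI := hQ'
      have hQP : Q' ≤ P := fun z hz => by
        by_contra hzP
        exact Set.disjoint_left.1 hdis' hz ⟨z, hzP, 0, by simp⟩
      have hcQ : c ∉ Q' := fun h => Set.disjoint_left.1 hdis' h
        ⟨1, fun h => hP.ne_top ((Ideal.eq_top_iff_one _).2 h), 1, by simp⟩
      have hlt' : Q' < P := lt_of_le_of_ne hQP fun h => hcQ (h ▸ (hG ▸ Ideal.subset_span hc))
      have hQ0 : Q' ≠ ⊥ := fun h => pow_ne_zero n hb0 (by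
        have := hle' (Ideal.mem_span_singleton_self (b ^ n))
        rwa [h, Submodule.mem_bot] at this)
      have h1 : (1 : ℕ∞) ≤ Q'.height := Order.one_le_iff_pos.2 (pos_iff_ne_zero.2 fun h0 =>
        hQ0 (Ideal.height_eq_zero_iff_eq_bot.1 h0))
      haveI : Q'.FiniteHeight := inferInstance
      exact absurd (lt_of_le_of_lt h1 (Ideal.height_strict_mono_of_isPrime hlt')) (not_lt.2 hP1)
    choose! s hs m hm using hc
    refine ⟨∏ c ∈ G, s c, fun h => ?_, G.sup m, fun c hc => ?_⟩
    · obtain ⟨c, hc, hcP⟩ := (Ideal.IsPrime.prod_mem_iff (p := P)).1 h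
      exact hs c hc hcP
    · refine (hm c hc).trans (mul_dvd_mul (Finset.dvd_prod_of_mem s hc) (pow_dvd_pow c (Finset.le_sup hc)))
  haveI : IsNoetherianRing (R ⧸ p) := inferInstance
  obtain ⟨G', hG'⟩ := (Module.Finite.fg_top : (⊤ : Submodule R (clHull Z p)).FG)
  classical
  obtain ⟨⟨d, hd⟩, hd'⟩ := IsLocalization.exist_integer_multiples_of_finset (nonZeroDivisors (R ⧸ p))
    (Finset.image (Subtype.val : clHull Z p → K) G')
  have hint : ∀ x : clHull Z p, ∃ c : R ⧸ p, algebraMap (R ⧸ p) K c = d • (x : K) := by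
    intro x
    have hx : x ∈ Submodule.span R (G' : Set (clHull Z p)) := hG' ▸ Submodule.mem_top
    induction hx using Submodule.span_induction with
    | mem x hx => exact hd' _ (Finset.mem_image_of_mem _ hx)
    | zero => exact ⟨0, by simp⟩
    | add x y _ _ hx hy =>
      obtain ⟨c, hc⟩ := hx
      obtain ⟨c', hc'⟩ := hy
      exact ⟨c + c', by rw [map_add, hc, hc', Submodule.coe_add, smul_add]⟩
    | smul r x _ hx =>
      obtain ⟨c, hc⟩ := hx
      exact ⟨r • c, by rw [algebraMap_smul', hc, Submodule.coe_smul, smul_comm]⟩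
  have hdn : ∀ n : ℕ, algebraMap (R ⧸ p) (Localization.AtPrime P) d ∈
      IsLocalRing.maximalIdeal (Localization.AtPrime P) ^ n := by
    intro n
    rcases Nat.eq_zero_or_pos n with rfl | hn
    · simp
    obtain ⟨s, hs, m, hm⟩ := hsn n hn
    have hbn : b ^ n ∈ nonZeroDivisors (R ⧸ p) := mem_nonZeroDivisors_of_ne_zero (pow_ne_zero _ hb0)
    have hx : IsLocalization.mk' K s ⟨b ^ n, hbn⟩ ∈ clHull Z p := by
      intro y' hy'
      have hnle : ¬ y.asIdeal ≤ y'.asIdeal := fun h => hy'
        (hZ ((PrimeSpectrum.le_iff_specializes y y').1 h) hy)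
      by_cases hpy : p ≤ y'.asIdeal
      · obtain ⟨c, hcG, hc⟩ : ∃ c ∈ G, c ∉ y'.asIdeal.map (Ideal.Quotient.mk p) := by
          by_contra hall
          push Not at hall
          apply hnle
          have h2 : P ≤ y'.asIdeal.map (Ideal.Quotient.mk p) := hG ▸ Ideal.span_le.2 hall
          have h3 := Ideal.comap_mono (f := Ideal.Quotient.mk p) h2
          rwa [hPcomap, Ideal.comap_map_of_surjective _ Ideal.Quotient.mk_surjective,
            ← RingHom.ker_eq_comap_bot, Ideal.mk_ker, sup_eq_left.2 hpy] at h3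
        obtain ⟨c₀, rfl⟩ := Ideal.Quotient.mk_surjective c
        refine ⟨c₀ ^ m, fun h => hc (Ideal.mem_map_of_mem _ (y'.isPrime.mem_of_pow_mem _ h)), ?_⟩
        obtain ⟨q, hq⟩ := hm _ hcG
        refine ⟨q, ?_⟩
        rw [Algebra.smul_def, IsScalarTower.algebraMap_apply R (R ⧸ p) K, Ideal.Quotient.algebraMap_eq,
          map_pow, IsLocalization.mul_mk'_eq_mk'_of_mul, IsLocalization.mk'_eq_iff_eq_mul, ← map_mul,
          mul_comm _ s, hq, mul_comm]
      · obtain ⟨c, hc, hcy⟩ := SetLike.not_le_iff_exists.1 hpy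
        refine ⟨c, hcy, 0, ?_⟩
        rw [Algebra.smul_def, IsScalarTower.algebraMap_apply R (R ⧸ p) K, Ideal.Quotient.algebraMap_eq,
          Ideal.Quotient.eq_zero_iff_mem.2 hc, map_zero, zero_mul]
    obtain ⟨c, hc⟩ := hint ⟨_, hx⟩
    have hds : d * s = c * b ^ n := by
      apply IsFractionRing.injective (R ⧸ p) K
      rw [map_mul, map_mul, hc, Submodule.coe_mk, Algebra.smul_def, mul_assoc]
      exact congrArg _ (IsLocalization.mk'_spec K s ⟨b ^ n, hbn⟩).symm
    have hu : IsUnit (algebraMap (R ⧸ p) (Localization.AtPrime P) s) :=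
      IsLocalization.map_units _ (⟨s, hs⟩ : P.primeCompl)
    refine (Ideal.mul_unit_mem_iff_mem _ hu).1 ?_
    rw [← map_mul, hds, map_mul, map_pow]
    exact Ideal.mul_mem_left _ _ (Ideal.pow_mem_pow
      ((IsLocalization.AtPrime.to_map_mem_maximal_iff _ P b).2 hbP) n)
  have h0 : algebraMap (R ⧸ p) (Localization.AtPrime P) d = 0 := by
    haveI : IsNoetherianRing (Localization.AtPrime P) := IsLocalization.isNoetherianRing P.primeCompl _ inferInstance
    have := Ideal.iInf_pow_eq_bot_of_isLocalRing (IsLocalRing.maximalIdeal (Localization.AtPrime P))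
      (IsLocalRing.maximalIdeal.isMaximal _).ne_top
    rw [← Submodule.mem_bot (R := Localization.AtPrime P), ← this, Submodule.mem_iInf]
    exact hdn
  exact nonZeroDivisors.ne_zero hd
    (IsLocalization.injective (Localization.AtPrime P) P.primeCompl_le_nonZeroDivisors (h0.trans (map_zero _).symm))

include hZ hpZ in
/-- The height one hull is contained in the fractions off a subset of height at least two. -/
theorem heightOneHullFinite_of_fin
    (hht : ∀ y : Spec (CommRingCat.of R), p ≤ y.asIdeal →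
      (2 : ℕ∞) ≤ (y.asIdeal.map (Ideal.Quotient.mk p)).height → y ∈ Z)
    (hfin : Fin' Z (R ⧸ p)) : EGA4.HeightOneHullFinite (R ⧸ p) := by
  haveI := finite_clHull Z hZ p hpZ hfin
  refine ⟨Groth.Agent.HullFinLib.hullSubalgebra (R ⧸ p), rfl, ?_⟩
  let H : Submodule R K := (Subalgebra.toSubmodule (Groth.Agent.HullFinLib.hullSubalgebra (R ⧸ p))).restrictScalars R
  have hH : H ≤ clHull Z p := by
    intro x hx y hy
    by_cases hle : p ≤ y.asIdeal
    · haveI := y.isPrime
      have hker : RingHom.ker (Ideal.Quotient.mk p) ≤ y.asIdeal := by rwa [Ideal.mk_ker]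
      haveI hP : (y.asIdeal.map (Ideal.Quotient.mk p)).IsPrime :=
        Ideal.map_isPrime_of_surjective Ideal.Quotient.mk_surjective hker
      have hlt : (y.asIdeal.map (Ideal.Quotient.mk p)).height < 2 := not_le.1 fun h => hy (hht y hle h)
      obtain ⟨s, hs, a, ha⟩ : ∃ s : R ⧸ p, s ∉ y.asIdeal.map (Ideal.Quotient.mk p) ∧
          ∃ a : R ⧸ p, algebraMap (R ⧸ p) K a = algebraMap (R ⧸ p) K s * x := by
        rcases (Order.le_of_lt_add_one (lt_of_lt_of_eq hlt one_add_one_eq_two.symm) :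
          (y.asIdeal.map (Ideal.Quotient.mk p)).height ≤ 1).lt_or_eq with h0 | h1
        · obtain ⟨⟨a, s⟩, hax⟩ := IsLocalization.surj (nonZeroDivisors (R ⧸ p)) x
          have hbot : y.asIdeal.map (Ideal.Quotient.mk p) = ⊥ :=
            Ideal.height_eq_zero_iff_eq_bot.1 (Order.lt_one_iff.1 h0)
          refine ⟨s, by rw [hbot, Submodule.mem_bot]; exact nonZeroDivisors.ne_zero s.2, a, ?_⟩
          rw [mul_comm]; exact hax.symm
        · exact hx _ h1
      obtain ⟨s₀, rfl⟩ := Ideal.Quotient.mk_surjective s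
      refine ⟨s₀, fun h => hs (Ideal.mem_map_of_mem _ h), a, ?_⟩
      rw [ha, Algebra.smul_def, IsScalarTower.algebraMap_apply R (R ⧸ p) K, Ideal.Quotient.algebraMap_eq]
    · obtain ⟨c, hc, hcy⟩ := SetLike.not_le_iff_exists.1 hle
      refine ⟨c, hcy, 0, ?_⟩
      rw [Algebra.smul_def, IsScalarTower.algebraMap_apply R (R ⧸ p) K, Ideal.Quotient.algebraMap_eq,
        Ideal.Quotient.eq_zero_iff_mem.2 hc, map_zero, zero_mul]
  haveI : IsNoetherian R (clHull Z p) := isNoetherian_of_isNoetherianRing_of_finite R _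
  haveI : Module.Finite R H := Module.Finite.of_injective (Submodule.inclusion hH) (Submodule.inclusion_injective hH)
  haveI : Module.Finite R (Groth.Agent.HullFinLib.hullSubalgebra (R ⧸ p)) :=
    Module.Finite.equiv (LinearEquiv.refl R H : H ≃ₗ[R] Groth.Agent.HullFinLib.hullSubalgebra (R ⧸ p))
  exact Module.Finite.of_restrictScalars_finite R _ _

end Quotient

omit [IsNoetherianRing R] in
/-- Associated primes of a submodule of a finite power. -/
theorem mem_associatedPrimes_of_pi {n : ℕ} (g : M →ₗ[R] (Fin n → N)) (hg : Function.Injective g)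
    (q : Ideal R) (hq : q.IsPrime) (x : M) (hx : ∀ r : R, r ∈ q ↔ r • x = 0) :
    ∃ i, ∀ r : R, r ∈ q ↔ r • g x i = 0 := by
  have h : Finset.univ.inf (fun i => LinearMap.ker (LinearMap.toSpanSingleton R N (g x i))) ≤ q := by
    intro r hr
    rw [Submodule.mem_finsetInf] at hr
    refine (hx r).2 (hg ?_)
    rw [map_smul, map_zero]
    funext i
    exact hr i (Finset.mem_univ i)
  obtain ⟨i, -, hi⟩ := (Ideal.IsPrime.inf_le' hq).1 h
  refine ⟨i, fun r => ⟨fun hr => ?_, fun hr => hi hr⟩⟩
  have h2 := congrArg g ((hx r).1 hr)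
  rw [map_smul, map_zero] at h2
  exact congrFun h2 i

include hZ in
/-- Dévissage along associated primes. -/
theorem fin_of_associatedPrimes [Module.Finite R M]
    (h : ∀ p ∈ associatedPrimes R M, Fin' Z (R ⧸ p)) : Fin' Z M := by
  suffices H : ∀ L : Submodule R M, (∀ p ∈ associatedPrimes R (M ⧸ L), Fin' Z (R ⧸ p)) → Fin' Z (M ⧸ L) by
    have e : M ≃ₗ[R] M ⧸ (⊥ : Submodule R M) := (Submodule.quotEquivOfEqBot ⊥ rfl).symm
    exact fin_of_injective Z e.toLinearMap e.injective
      (H ⊥ fun p hp => h p ((LinearEquiv.AssociatedPrimes.eq e).symm ▸ hp))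
  intro L
  induction L using (wellFounded_gt (α := Submodule R M)).induction with
  | _ L ih =>
  intro hass
  rcases subsingleton_or_nontrivial (M ⧸ L) with hs | hs
  · exact fin_of_subsingleton Z hZ hs
  obtain ⟨p, hpA, hpmax⟩ := (associatedPrimes.finite R (M ⧸ L)).exists_maximal
    (associatedPrimes.nonempty R (M ⧸ L))
  haveI hp' : p.IsPrime := IsAssociatedPrime.isPrime hpA
  obtain ⟨x₀, hx₀⟩ := (isAssociatedPrime_iff.1 hpA).2
  let T : Submodule R (M ⧸ L) := Submodule.torsionBySet R (M ⧸ L) p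
  have hfinT : Fin' Z T := by
    letI : Module (R ⧸ p) T := (Submodule.torsionBySet_isTorsionBySet (R := R) (M := M ⧸ L) (p : Set R)).module
    haveI : IsScalarTower R (R ⧸ p) T :=
      (Submodule.torsionBySet_isTorsionBySet (R := R) (M := M ⧸ L) (p : Set R)).isScalarTower
    haveI : Module.Finite R T := inferInstance
    haveI : Module.Finite (R ⧸ p) T := Module.Finite.of_restrictScalars_finite R _ _
    haveI : Module.IsTorsionFree (R ⧸ p) T := by
      refine Module.isTorsionFree_iff_smul_eq_zero.2 fun c t hct => ?_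
      obtain ⟨c₀, rfl⟩ := Ideal.Quotient.mk_surjective c
      rw [or_iff_not_imp_right]
      intro ht
      rw [Ideal.Quotient.eq_zero_iff_mem]
      by_contra hcp
      have ht' : (t : M ⧸ L) ≠ 0 := fun h0 => ht (Subtype.ext h0)
      obtain ⟨q, hq, hle⟩ := exists_le_isAssociatedPrime_of_isNoetherianRing R (t : M ⧸ L) ht'
      have hpq : p ≤ q := fun r hr => hle (Submodule.mem_colon_singleton.2
        ((Submodule.mem_bot R).2 ((Submodule.mem_torsionBySet_iff _ _).1 t.2 ⟨r, hr⟩)))
      exact hcp (hpmax hq hpq (hle (Submodule.mem_colon_singleton.2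
        ((Submodule.mem_bot R).2 (congrArg Subtype.val hct)))))
    obtain ⟨n, f, hf⟩ := Groth.Agent.CAlgBasics.exists_injective_pi_of_isTorsionFree (R ⧸ p) T
    exact fin_pi Z hZ (hass p hpA) n T (f.restrictScalars R) hf
  obtain ⟨n, gen, hgen⟩ := Submodule.fg_iff_exists_fin_generating_family.1 (IsNoetherian.noetherian p)
  let g : (M ⧸ L) →ₗ[R] (Fin n → M ⧸ L) :=
    LinearMap.pi fun i => gen i • (LinearMap.id : (M ⧸ L) →ₗ[R] (M ⧸ L))
  have hker : LinearMap.ker g = T := by
    ext x
    rw [LinearMap.mem_ker, Submodule.mem_torsionBySet_iff, funext_iff]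
    constructor
    · rintro hx ⟨r, hr⟩
      have : p ≤ LinearMap.ker (LinearMap.toSpanSingleton R (M ⧸ L) x) := by
        rw [← hgen, Submodule.span_le]
        rintro _ ⟨i, rfl⟩
        exact hx i
      exact this hr
    · exact fun hx i => hx ⟨gen i, hgen ▸ Submodule.subset_span ⟨i, rfl⟩⟩
  let L' : Submodule R M := LinearMap.ker (g.comp L.mkQ)
  have hLL : L < L' := by
    refine lt_of_le_of_ne (fun m hm => by
      change g (L.mkQ m) = 0
      rw [Submodule.mkQ_apply, (Submodule.Quotient.mk_eq_zero L).2 hm, map_zero]) fun heq => ?_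
    obtain ⟨m, rfl⟩ := Submodule.Quotient.mk_surjective _ x₀
    have hmem : Submodule.Quotient.mk (p := L) m ∈ T := by
      rw [Submodule.mem_torsionBySet_iff]
      intro r
      exact (Submodule.mem_bot R).1 (Submodule.mem_colon_singleton.1 (hx₀ ▸ r.2))
    have hm : m ∈ L' := by rw [← hker] at hmem; exact hmem
    rw [← heq, ← Submodule.Quotient.mk_eq_zero L] at hm
    exact hp'.ne_top (by rw [hx₀, hm, Submodule.colon_singleton_zero])
  let g' : (M ⧸ L') →ₗ[R] (Fin n → M ⧸ L) := L'.liftQ (g.comp L.mkQ) le_rfl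
  have hg' : Function.Injective g' := by
    rw [← LinearMap.ker_eq_bot, Submodule.ker_liftQ]
    exact Submodule.mkQ_map_self L'
  have hfinQ : Fin' Z (M ⧸ L') := ih L' hLL fun q hq => by
    obtain ⟨hqp, x, hx⟩ := isAssociatedPrime_iff.1 hq
    obtain ⟨i, hi⟩ := mem_associatedPrimes_of_pi g' hg' q hqp x fun r => by
      rw [hx, Submodule.mem_colon_singleton, Submodule.mem_bot]
    exact hass q (isAssociatedPrime_iff.2 ⟨hqp, g' x i, by
      ext r; rw [hi r, Submodule.mem_colon_singleton, Submodule.mem_bot]⟩)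
  let π : (M ⧸ L) →ₗ[R] (M ⧸ L') := L.mapQ L' LinearMap.id hLL.le
  refine fin_of_map Z π (fin_of_injective Z (LinearMap.codRestrict T (LinearMap.ker π).subtype ?_) ?_ hfinT) hfinQ
  · rintro ⟨x, hx⟩
    obtain ⟨m, rfl⟩ := Submodule.Quotient.mk_surjective _ x
    rw [LinearMap.mem_ker, Submodule.mapQ_apply, Submodule.Quotient.mk_eq_zero] at hx
    rw [← hker]
    exact hx
  · exact fun a b hab => by
      have h2 := congrArg Subtype.val hab
      exact Subtype.ext h2

end ZClosLib
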