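import Groth.Agent.PullbackMod.Props
import Groth.Agent.ZClosLib.Colim
import Mathlib.RingTheory.TensorProduct.IsBaseChangePi
import Mathlib.RingTheory.Flat.IsBaseChange

/-!
# Flat base change and sections outside a closed set

If restricting the sections of a quasi-coherent module from an affine open to a quasi-compact open
subset is bijective, the same holds after a flat inverse image.
-/

set_option autoImplicit false
set_option backward.isDefEq.respectTransparency false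
set_option linter.style.haveILetI false

universe u

open CategoryTheory CategoryTheory.Limits AlgebraicGeometry Opposite TopologicalSpace
open scoped TensorProduct

namespace ZClosLib

/-! ### Algebra -/

section Algebra

variable {A B : Type u} [CommRing A] [CommRing B] [Algebra A B]
variable {M₁ M₂ M₃ N₁ N₂ N₃ : Type u} [AddCommGroup M₁] [AddCommGroup M₂] [AddCommGroup M₃]
  [AddCommGroup N₁] [AddCommGroup N₂] [AddCommGroup N₃] [Module A M₁] [Module A M₂] [Module A M₃]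
  [Module A N₁] [Module A N₂] [Module A N₃] [Module B N₁] [Module B N₂] [Module B N₃]
  [IsScalarTower A B N₁] [IsScalarTower A B N₂] [IsScalarTower A B N₃]

/-- A left exact sequence stays left exact under flat base change. -/
theorem exact_of_isBaseChange [Module.Flat A B] {h₁ : M₁ →ₗ[A] N₁} {h₂ : M₂ →ₗ[A] N₂} {h₃ : M₃ →ₗ[A] N₃}
    {f : M₁ →ₗ[A] M₂} {g : M₂ →ₗ[A] M₃} {f' : N₁ →ₗ[B] N₂} {g' : N₂ →ₗ[B] N₃}
    (comm₁ : ∀ m, h₂ (f m) = f' (h₁ m)) (comm₂ : ∀ m, h₃ (g m) = g' (h₂ m))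
    (hb₁ : IsBaseChange B h₁) (hb₂ : IsBaseChange B h₂) (hb₃ : IsBaseChange B h₃)
    (hfi : Function.Injective f) (hex : Function.Exact f g) :
    Function.Injective f' ∧ Function.Exact f' g' := by
  let e₁ := hb₁.equiv.restrictScalars A
  let e₂ := hb₂.equiv.restrictScalars A
  let e₃ := hb₃.equiv.restrictScalars A
  have hc₁ : ∀ z, f' (e₁ z) = e₂ (f.lTensor B z) := fun z => by
    induction z with
    | zero => simp
    | add p q hp hq => simp only [map_add, hp, hq]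
    | tmul b m =>
      change f' (hb₁.equiv (b ⊗ₜ m)) = hb₂.equiv (b ⊗ₜ f m)
      rw [hb₁.equiv_tmul, hb₂.equiv_tmul, map_smul, comm₁]
  have hc₂ : ∀ z, g' (e₂ z) = e₃ (g.lTensor B z) := fun z => by
    induction z with
    | zero => simp
    | add p q hp hq => simp only [map_add, hp, hq]
    | tmul b m =>
      change g' (hb₂.equiv (b ⊗ₜ m)) = hb₃.equiv (b ⊗ₜ g m)
      rw [hb₂.equiv_tmul, hb₃.equiv_tmul, map_smul, comm₂]
  refine ⟨fun p q hpq => ?_, fun y => ?_⟩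
  · obtain ⟨p, rfl⟩ := e₁.surjective p
    obtain ⟨q, rfl⟩ := e₁.surjective q
    rw [hc₁, hc₁] at hpq
    exact congrArg e₁ (Module.Flat.lTensor_preserves_injective_linearMap f hfi (e₂.injective hpq))
  · obtain ⟨z, rfl⟩ := e₂.surjective y
    rw [hc₂, map_eq_zero_iff e₃ e₃.injective, Module.Flat.lTensor_exact B hex z]
    constructor
    · rintro ⟨w, rfl⟩
      exact ⟨e₁ w, hc₁ w⟩
    · rintro ⟨w, hw⟩
      obtain ⟨w, rfl⟩ := e₁.surjective w
      exact ⟨w, e₂.injective ((hc₁ w).symm.trans hw)⟩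

end Algebra

/-- Base change along a pushout of rings. -/
theorem isBaseChange_of_isPushout {A B A₁ B₁ N N' : Type u} [CommRing A] [CommRing B] [CommRing A₁]
    [CommRing B₁] [Algebra A B] [Algebra A A₁] [Algebra A B₁] [Algebra B B₁] [Algebra A₁ B₁]
    [IsScalarTower A B B₁] [IsScalarTower A A₁ B₁] [Algebra.IsPushout A B A₁ B₁]
    [AddCommGroup N] [AddCommGroup N'] [Module A N] [Module A₁ N] [IsScalarTower A A₁ N]
    [Module A N'] [Module B N'] [Module A₁ N'] [Module B₁ N'] [IsScalarTower A₁ B₁ N']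
    [IsScalarTower B B₁ N'] [IsScalarTower A B N']
    (h : N →ₗ[A₁] N') (h' : N →ₗ[A] N') (hh : ∀ n, h' n = h n) (hb : IsBaseChange B₁ h) :
    IsBaseChange B h' := by
  refine IsBaseChange.of_equiv
    ((Algebra.IsPushout.cancelBaseChange A B A₁ B₁ N).symm ≪≫ₗ hb.equiv.restrictScalars B) fun n => ?_
  rw [LinearEquiv.trans_apply, Algebra.IsPushout.cancelBaseChange_symm_tmul, map_one]
  change hb.equiv (1 ⊗ₜ n) = h' n
  rw [hb.equiv_tmul, one_smul, hh]

/-! ### Sections over a finite union -/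

section Sheaf

variable {X : Scheme.{u}} (M : X.Modules) {ι : Type u} (D : ι → X.Opens)

/-- The restrictions to the members of a family. -/
noncomputable def resPi {V : X.Opens} (hD : ∀ i, D i ≤ V) : Γ(M, V) →+ ∀ i, Γ(M, D i) :=
  AddMonoidHom.pi fun i => (M.presheaf.map (homOfLE (hD i)).op).hom

/-- The differences on overlaps. -/
noncomputable def resDiff : (∀ i, Γ(M, D i)) →+ ∀ p : ι × ι, Γ(M, D p.1 ⊓ D p.2) :=
  AddMonoidHom.pi fun p =>
    (M.presheaf.map (homOfLE (inf_le_left : D p.1 ⊓ D p.2 ≤ D p.1)).op).hom.comp (Pi.evalAddMonoidHom _ p.1) -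
      (M.presheaf.map (homOfLE (inf_le_right : D p.1 ⊓ D p.2 ≤ D p.2)).op).hom.comp (Pi.evalAddMonoidHom _ p.2)

theorem resPi_apply {V : X.Opens} (hD : ∀ i, D i ≤ V) (s : Γ(M, V)) (i : ι) :
    resPi M D hD s i = M.presheaf.map (homOfLE (hD i)).op s := rfl

theorem resDiff_apply (s : ∀ i, Γ(M, D i)) (p : ι × ι) :
    resDiff M D s p = M.presheaf.map (homOfLE (inf_le_left : D p.1 ⊓ D p.2 ≤ D p.1)).op (s p.1) -
      M.presheaf.map (homOfLE (inf_le_right : D p.1 ⊓ D p.2 ≤ D p.2)).op (s p.2) := rfl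

theorem res_bijective_iff_exact {V U : X.Opens} (hUV : U ≤ V) (hD : ∀ i, D i ≤ U) (hcov : U ≤ iSup D) :
    Function.Bijective (M.presheaf.map (homOfLE hUV).op) ↔
      Function.Injective (resPi M D fun i => (hD i).trans hUV) ∧
        Function.Exact (resPi M D fun i => (hD i).trans hUV) (resDiff M D) := by
  have hsep : Function.Injective (resPi M D hD) := fun s t hst => section_ext M U s t fun x hx => by
    obtain ⟨i, hi⟩ := Opens.mem_iSup.1 (hcov hx)
    rw [← germ_res' M (hD i) x hi s, ← germ_res' M (hD i) x hi t]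
    exact congrArg (M.presheaf.germ (D i) x hi) (congrFun hst i)
  have hcomp : ∀ s, resPi M D (fun i => (hD i).trans hUV) s =
      resPi M D hD (M.presheaf.map (homOfLE hUV).op s) := fun s => funext fun i =>
    (res_res M (hD i) hUV s).symm
  have hzero : ∀ s, resDiff M D (resPi M D hD s) = 0 := fun s => funext fun p => by
    rw [resDiff_apply, resPi_apply, resPi_apply, res_res, res_res, sub_self]
    rfl
  have hglue : ∀ s, resDiff M D s = 0 → ∃ t, resPi M D hD t = s := fun s hs => by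
    obtain ⟨t, ht, -⟩ := TopCat.Sheaf.existsUnique_gluing'
      ((Groth.Agent.QCohLib.toAbF X).obj M) D U (fun i => homOfLE (hD i)) hcov s
      (fun i j => sub_eq_zero.1 (congrFun hs (i, j)))
    exact ⟨t, funext ht⟩
  constructor
  · intro h
    refine ⟨fun s t hst => h.1 (hsep (by rwa [← hcomp, ← hcomp])), fun y => ⟨fun hy => ?_, ?_⟩⟩
    · obtain ⟨t, rfl⟩ := hglue y hy
      obtain ⟨s, rfl⟩ := h.2 t
      exact ⟨s, hcomp s⟩
    · rintro ⟨s, rfl⟩
      rw [hcomp, hzero]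
  · rintro ⟨hi, hex⟩
    refine ⟨fun s t hst => hi (by rw [hcomp, hcomp, hst]), fun t => ?_⟩
    obtain ⟨s, hs⟩ := (hex _).1 (hzero t)
    exact ⟨s, hsep (by rw [← hcomp, hs])⟩

end Sheaf

/-! ### Base change of sections on basic opens -/

section Scheme

variable {X X' : Scheme.{u}} (f : X' ⟶ X) (G : X.Modules) [Coh.IsQCoh G] {V : X.Opens} {W : X'.Opens}

theorem isBaseChange_basic (hV : IsAffineOpen V) (hW : IsAffineOpen W) (e : W ≤ f ⁻¹ᵁ V) (g : Γ(X, V))
    {D : X.Opens} (hD : D = X.basicOpen g) {D' : X'.Opens} (hD' : D' = X'.basicOpen (f.appLE V W e g))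
    (hDV : D ≤ V) (hDW : D' ≤ W) (e' : D' ≤ f ⁻¹ᵁ D)
    [Algebra Γ(X, V) Γ(X', W)] (halg : algebraMap Γ(X, V) Γ(X', W) = (f.appLE V W e).hom)
    [Module Γ(X, V) Γ(G, D)] (hs₁ : ∀ (a : Γ(X, V)) (m : Γ(G, D)), a • m = X.presheaf.map (homOfLE hDV).op a • m)
    [Module Γ(X', W) Γ((Scheme.Modules.pullback f).obj G, D')] (hs₂ : ∀ (b : Γ(X', W)) (m : Γ((Scheme.Modules.pullback f).obj G, D')), b • m = X'.presheaf.map (homOfLE hDW).op b • m)
    [Module Γ(X, V) Γ((Scheme.Modules.pullback f).obj G, D')] [IsScalarTower Γ(X, V) Γ(X', W) Γ((Scheme.Modules.pullback f).obj G, D')]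
    (h : Γ(G, D) →ₗ[Γ(X, V)] Γ((Scheme.Modules.pullback f).obj G, D')) (hh : ∀ m, h m = Groth.Agent.PullbackMod.pullMap f G e' m) :
    IsBaseChange Γ(X', W) h := by
  letI : Algebra Γ(X, V) Γ(X, D) := (X.presheaf.map (homOfLE hDV).op).hom.toAlgebra
  letI : Algebra Γ(X', W) Γ(X', D') := (X'.presheaf.map (homOfLE hDW).op).hom.toAlgebra
  letI : Algebra Γ(X, D) Γ(X', D') := (f.appLE D D' e').hom.toAlgebra
  letI : Algebra Γ(X, V) Γ(X', D') := (f.appLE V D' (hDW.trans e)).hom.toAlgebra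
  haveI : IsScalarTower Γ(X, V) Γ(X, D) Γ(X', D') := .of_algebraMap_eq' (by
    change _ = (X.presheaf.map (homOfLE hDV).op ≫ f.appLE D D' e').hom
    rw [Scheme.Hom.map_appLE]
    rfl)
  haveI : IsScalarTower Γ(X, V) Γ(X', W) Γ(X', D') := .of_algebraMap_eq' (by
    rw [halg]
    change _ = (f.appLE V W e ≫ X'.presheaf.map (homOfLE hDW).op).hom
    rw [Scheme.Hom.appLE_map]
    rfl)
  haveI : IsLocalization.Away g Γ(X, D) := hV.isLocalization_of_eq_basicOpen g (homOfLE hDV) hD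
  haveI : IsLocalization (Algebra.algebraMapSubmonoid Γ(X', W) (Submonoid.powers g)) Γ(X', D') := by
    rw [Algebra.algebraMapSubmonoid, Submonoid.map_powers]
    change IsLocalization.Away (algebraMap Γ(X, V) Γ(X', W) g) Γ(X', D')
    rw [halg]
    exact hW.isLocalization_of_eq_basicOpen _ (homOfLE hDW) hD'
  haveI : Algebra.IsPushout Γ(X, V) Γ(X', W) Γ(X, D) Γ(X', D') :=
    Algebra.isPushout_of_isLocalization (A := Γ(X, D)) (Submonoid.powers g) Γ(X', W) Γ(X', D')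
  letI : Module Γ(X, D) Γ((Scheme.Modules.pullback f).obj G, D') := Module.compHom _ (f.appLE D D' e').hom
  haveI : IsScalarTower Γ(X, D) Γ(X', D') Γ((Scheme.Modules.pullback f).obj G, D') := .of_algebraMap_smul fun _ _ => rfl
  haveI : IsScalarTower Γ(X, V) Γ(X, D) Γ(G, D) := .of_algebraMap_smul fun a m => (hs₁ a m).symm
  haveI : IsScalarTower Γ(X', W) Γ(X', D') Γ((Scheme.Modules.pullback f).obj G, D') := .of_algebraMap_smul fun b m => (hs₂ b m).symm
  have hD₀ : IsAffineOpen D := hD ▸ hV.basicOpen g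
  have hD₀' : IsAffineOpen D' := hD' ▸ hW.basicOpen _
  exact isBaseChange_of_isPushout (Groth.Agent.PullbackMod.pullMapL f G e') h hh
    (Groth.Agent.PullbackMod.isBaseChange_pullMapL f G hD₀ hD₀' e')

omit [Coh.IsQCoh G] in
theorem pullMap_res {W₁ W₂ : X.Opens} {W₁' W₂' : X'.Opens} (h : W₁ ≤ W₂) (h' : W₁' ≤ W₂')
    (e₁ : W₁' ≤ f ⁻¹ᵁ W₁) (e₂ : W₂' ≤ f ⁻¹ᵁ W₂) (m : Γ(G, W₂)) :
    Groth.Agent.PullbackMod.pullMap f G e₁ (G.presheaf.map (homOfLE h).op m) =
      ((Scheme.Modules.pullback f).obj G).presheaf.map (homOfLE h').op (Groth.Agent.PullbackMod.pullMap f G e₂ m) := by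
  exact (Groth.Agent.PullbackMod.pullMap_res f G e₂ h h' e₁ m).symm

/-- Bijectivity of restriction to a quasi-compact open survives flat inverse images. -/
theorem res_bijective_pullback [Flat f] (hV : IsAffineOpen V) (hW : IsAffineOpen W) (e : W ≤ f ⁻¹ᵁ V)
    {U : X.Opens} (hUV : U ≤ V) (hU : IsCompact (U : Set X))
    (h : Function.Bijective (G.presheaf.map (homOfLE hUV).op)) :
    Function.Bijective (((Scheme.Modules.pullback f).obj G).presheaf.map (homOfLE (inf_le_left : W ⊓ f ⁻¹ᵁ U ≤ W)).op) := by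
  classical
  have hbasis : ∀ x : U, ∃ g : Γ(X, V), X.basicOpen g ≤ U ∧ x.1 ∈ X.basicOpen g := fun x =>
    hV.exists_basicOpen_le ⟨x.1, x.2⟩ (hUV x.2)
  choose g₀ hg₀ hxg₀ using hbasis
  obtain ⟨t, ht⟩ := hU.elim_finite_subcover (fun x : U => (X.basicOpen (g₀ x) : Set X))
    (fun x => (X.basicOpen (g₀ x)).2) fun x hx => Set.mem_iUnion.2 ⟨⟨x, hx⟩, hxg₀ _⟩
  let ι : Type u := {x : U // x ∈ t}
  let g : ι → Γ(X, V) := fun i => g₀ i.1
  let D : ι → X.Opens := fun i => X.basicOpen (g i)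
  let φ := f.appLE V W e
  let D' : ι → X'.Opens := fun i => X'.basicOpen (φ (g i))
  have hDU : ∀ i, D i ≤ U := fun i => hg₀ _
  have hcov : U ≤ iSup D := fun x hx => by
    obtain ⟨y, hy, hxy⟩ := Set.mem_iUnion₂.1 (ht hx)
    exact Opens.mem_iSup.2 ⟨⟨y, hy⟩, hxy⟩
  have hD'eq : ∀ i, D' i = W ⊓ f ⁻¹ᵁ D i := fun i => Scheme.basicOpen_appLE f W V e (g i)
  have hD'U : ∀ i, D' i ≤ W ⊓ f ⁻¹ᵁ U := fun i => (hD'eq i).le.trans (inf_le_inf_left _ (f.preimage_mono (hDU i)))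
  have hcov' : W ⊓ f ⁻¹ᵁ U ≤ iSup D' := fun x hx => by
    obtain ⟨i, hi⟩ := Opens.mem_iSup.1 (hcov hx.2)
    exact Opens.mem_iSup.2 ⟨i, (hD'eq i).ge ⟨hx.1, hi⟩⟩
  have hDV : ∀ i, D i ≤ V := fun i => (hDU i).trans hUV
  have hD'W : ∀ i, D' i ≤ W := fun i => (hD'U i).trans inf_le_left
  have he : ∀ i, D' i ≤ f ⁻¹ᵁ D i := fun i => (hD'eq i).le.trans inf_le_right
  have he₂ : ∀ p : ι × ι, D' p.1 ⊓ D' p.2 ≤ f ⁻¹ᵁ (D p.1 ⊓ D p.2) := fun p =>
    inf_le_inf (he p.1) (he p.2)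
  obtain ⟨hinj, hex⟩ := (res_bijective_iff_exact G D hUV hDU hcov).1 h
  rw [res_bijective_iff_exact ((Scheme.Modules.pullback f).obj G) D' inf_le_left hD'U hcov']
  letI : Algebra Γ(X, V) Γ(X', W) := φ.hom.toAlgebra
  haveI : Module.Flat Γ(X, V) Γ(X', W) := f.flat_appLE hV hW e
  letI m₁ : ∀ i, Module Γ(X, V) Γ(G, D i) := fun i => Module.compHom _ (X.presheaf.map (homOfLE (hDV i)).op).hom
  letI m₂ : ∀ p : ι × ι, Module Γ(X, V) Γ(G, D p.1 ⊓ D p.2) := fun p =>
    Module.compHom _ (X.presheaf.map (homOfLE ((inf_le_left : D p.1 ⊓ D p.2 ≤ D p.1).trans (hDV p.1))).op).hom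
  letI n₁ : ∀ i, Module Γ(X', W) Γ((Scheme.Modules.pullback f).obj G, D' i) := fun i =>
    Module.compHom _ (X'.presheaf.map (homOfLE (hD'W i)).op).hom
  letI n₂ : ∀ p : ι × ι, Module Γ(X', W) Γ((Scheme.Modules.pullback f).obj G, D' p.1 ⊓ D' p.2) := fun p =>
    Module.compHom _ (X'.presheaf.map (homOfLE ((inf_le_left : D' p.1 ⊓ D' p.2 ≤ D' p.1).trans (hD'W p.1))).op).hom
  letI k₀ : Module Γ(X, V) Γ((Scheme.Modules.pullback f).obj G, W) := Module.compHom _ φ.hom
  letI k₁ : ∀ i, Module Γ(X, V) Γ((Scheme.Modules.pullback f).obj G, D' i) := fun i => Module.compHom _ φ.hom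
  letI k₂ : ∀ p : ι × ι, Module Γ(X, V) Γ((Scheme.Modules.pullback f).obj G, D' p.1 ⊓ D' p.2) := fun p => Module.compHom _ φ.hom
  haveI : IsScalarTower Γ(X, V) Γ(X', W) Γ((Scheme.Modules.pullback f).obj G, W) := .of_algebraMap_smul fun _ _ => rfl
  haveI : ∀ i, IsScalarTower Γ(X, V) Γ(X', W) Γ((Scheme.Modules.pullback f).obj G, D' i) := fun i => .of_algebraMap_smul fun _ _ => rfl
  haveI : ∀ p : ι × ι, IsScalarTower Γ(X, V) Γ(X', W) Γ((Scheme.Modules.pullback f).obj G, D' p.1 ⊓ D' p.2) := fun p =>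
    .of_algebraMap_smul fun _ _ => rfl
  -- the linear maps
  have hmapA : ∀ {U₁ U₂ : X.Opens} (h₁ : U₁ ≤ U₂) (h₂ : U₂ ≤ V) (a : Γ(X, V)) (s : Γ(G, U₂)),
      G.presheaf.map (homOfLE h₁).op (X.presheaf.map (homOfLE h₂).op a • s) =
        X.presheaf.map (homOfLE (h₁.trans h₂)).op a • G.presheaf.map (homOfLE h₁).op s := by
    intro U₁ U₂ h₁ h₂ a s
    rw [G.map_smul]
    congr 1
    rw [← CategoryTheory.ConcreteCategory.comp_apply, ← Functor.map_comp, ← op_comp]
    rfl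
  have hmapB : ∀ {U₁ U₂ : X'.Opens} (h₁ : U₁ ≤ U₂) (h₂ : U₂ ≤ W) (a : Γ(X', W)) (s : Γ((Scheme.Modules.pullback f).obj G, U₂)),
      ((Scheme.Modules.pullback f).obj G).presheaf.map (homOfLE h₁).op (X'.presheaf.map (homOfLE h₂).op a • s) =
        X'.presheaf.map (homOfLE (h₁.trans h₂)).op a • ((Scheme.Modules.pullback f).obj G).presheaf.map (homOfLE h₁).op s := by
    intro U₁ U₂ h₁ h₂ a s
    rw [((Scheme.Modules.pullback f).obj G).map_smul]
    congr 1
    rw [← CategoryTheory.ConcreteCategory.comp_apply, ← Functor.map_comp, ← op_comp]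
    rfl
  let fA : Γ(G, V) →ₗ[Γ(X, V)] ∀ i, Γ(G, D i) :=
    { resPi G D hDV with
      map_smul' := fun a s => funext fun i => G.map_smul _ a s }
  let gA : (∀ i, Γ(G, D i)) →ₗ[Γ(X, V)] ∀ p : ι × ι, Γ(G, D p.1 ⊓ D p.2) :=
    { resDiff G D with
      map_smul' := fun a s => funext fun p => by
        change G.presheaf.map _ (X.presheaf.map (homOfLE (hDV p.1)).op a • s p.1) -
            G.presheaf.map _ (X.presheaf.map (homOfLE (hDV p.2)).op a • s p.2) =
          X.presheaf.map (homOfLE ((inf_le_left : D p.1 ⊓ D p.2 ≤ D p.1).trans (hDV p.1))).op a • resDiff G D s p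
        rw [hmapA, hmapA, resDiff_apply, smul_sub] }
  let fB : Γ((Scheme.Modules.pullback f).obj G, W) →ₗ[Γ(X', W)] ∀ i, Γ((Scheme.Modules.pullback f).obj G, D' i) :=
    { resPi ((Scheme.Modules.pullback f).obj G) D' hD'W with
      map_smul' := fun a s => funext fun i => ((Scheme.Modules.pullback f).obj G).map_smul _ a s }
  let gB : (∀ i, Γ((Scheme.Modules.pullback f).obj G, D' i)) →ₗ[Γ(X', W)] ∀ p : ι × ι, Γ((Scheme.Modules.pullback f).obj G, D' p.1 ⊓ D' p.2) :=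
    { resDiff ((Scheme.Modules.pullback f).obj G) D' with
      map_smul' := fun a s => funext fun p => by
        change ((Scheme.Modules.pullback f).obj G).presheaf.map _ (X'.presheaf.map (homOfLE (hD'W p.1)).op a • s p.1) -
            ((Scheme.Modules.pullback f).obj G).presheaf.map _ (X'.presheaf.map (homOfLE (hD'W p.2)).op a • s p.2) =
          X'.presheaf.map (homOfLE ((inf_le_left : D' p.1 ⊓ D' p.2 ≤ D' p.1).trans (hD'W p.1))).op a • resDiff ((Scheme.Modules.pullback f).obj G) D' s p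
        rw [hmapB, hmapB, resDiff_apply, smul_sub] }
  -- the comparison maps
  have hmap : ∀ {U₁ : X.Opens} {U₁' : X'.Opens} (e₁ : U₁' ≤ f ⁻¹ᵁ U₁) (h₁ : U₁ ≤ V) (h₁' : U₁' ≤ W)
      (a : Γ(X, V)), f.appLE U₁ U₁' e₁ (X.presheaf.map (homOfLE h₁).op a) =
        X'.presheaf.map (homOfLE h₁').op (φ a) := by
    intro U₁ U₁' e₁ h₁ h₁' a
    rw [← CategoryTheory.ConcreteCategory.comp_apply, ← CategoryTheory.ConcreteCategory.comp_apply]
    simp only [φ, Scheme.Hom.map_appLE, Scheme.Hom.appLE_map]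
  let c₁ : ∀ i, Γ(G, D i) →ₗ[Γ(X, V)] Γ((Scheme.Modules.pullback f).obj G, D' i) := fun i =>
    { Groth.Agent.PullbackMod.pullMap f G (he i) with
      map_smul' := fun a m => (Groth.Agent.PullbackMod.pullMap_smul f G (he i) _ m).trans
        (congrArg (· • Groth.Agent.PullbackMod.pullMap f G (he i) m) (hmap (he i) (hDV i) (hD'W i) a)) }
  let c₂ : ∀ p : ι × ι, Γ(G, D p.1 ⊓ D p.2) →ₗ[Γ(X, V)] Γ((Scheme.Modules.pullback f).obj G, D' p.1 ⊓ D' p.2) := fun p =>
    { Groth.Agent.PullbackMod.pullMap f G (he₂ p) with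
      map_smul' := fun a m => (Groth.Agent.PullbackMod.pullMap_smul f G (he₂ p) _ m).trans
        (congrArg (· • Groth.Agent.PullbackMod.pullMap f G (he₂ p) m)
          (hmap (he₂ p) ((inf_le_left : D p.1 ⊓ D p.2 ≤ D p.1).trans (hDV p.1)) ((inf_le_left : D' p.1 ⊓ D' p.2 ≤ D' p.1).trans (hD'W p.1)) a)) }
  have b₀ := Groth.Agent.PullbackMod.isBaseChange_pullMapL f G hV hW e
  have b₁ : ∀ i, IsBaseChange Γ(X', W) (c₁ i) := fun i =>
    isBaseChange_basic f G hV hW e (g i) rfl rfl (hDV i) (hD'W i) (he i) rfl (fun _ _ => rfl)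
      (fun _ _ => rfl) (c₁ i) fun _ => rfl
  have b₂ : ∀ p, IsBaseChange Γ(X', W) (c₂ p) := fun p =>
    isBaseChange_basic f G hV hW e (g p.1 * g p.2) (Scheme.basicOpen_mul X (g p.1) (g p.2)).symm
      (by rw [map_mul, Scheme.basicOpen_mul])
      ((inf_le_left : D p.1 ⊓ D p.2 ≤ D p.1).trans (hDV p.1)) ((inf_le_left : D' p.1 ⊓ D' p.2 ≤ D' p.1).trans (hD'W p.1)) (he₂ p) rfl (fun _ _ => rfl)
      (fun _ _ => rfl) (c₂ p) fun _ => rfl
  exact exact_of_isBaseChange (f := fA) (g := gA) (f' := fB) (g' := gB)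
    (fun m => funext fun i => pullMap_res f G (hDV i) (hD'W i) (he i) e m)
    (fun s => funext fun p => by
      change Groth.Agent.PullbackMod.pullMap f G (he₂ p) (resDiff G D s p) = resDiff ((Scheme.Modules.pullback f).obj G) D' _ p
      rw [resDiff_apply, resDiff_apply, map_sub, pullMap_res f G inf_le_left inf_le_left (he₂ p) (he p.1),
        pullMap_res f G inf_le_right inf_le_right (he₂ p) (he p.2)]
      rfl)
    b₀ (IsBaseChange.pi _ b₁) (IsBaseChange.pi _ b₂) hinj hex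

end Scheme

end ZClosLib
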